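import Mathlib

/-!
# Hilbert 90 and surjectivity of the norm for finite commutative rings with involution

`S` finite commutative ring, `τ` an involution such that `u - τ u` is a unit for some `u`.
* `hilbert90` : `c * τ c = 1` implies `c * τ d = d` for some unit `d`;
* `norm_surj` : every unit `s` with `τ s = s` is `d * τ d` for some unit `d`.
-/

set_option autoImplicit false

namespace Cfsg.Agent.H193.Hilb

/-- in a finite monoid `x ^ (card M)!` is idempotent -/
theorem pow_factorial_mul_self {M : Type*} [Monoid M] [Finite M] (x : M) :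
    x ^ (Nat.card M).factorial * x ^ (Nat.card M).factorial = x ^ (Nat.card M).factorial := by
  classical
  -- pigeonhole
  have : Fintype M := Fintype.ofFinite M
  obtain ⟨a, b, hab, hne⟩ : ∃ a b : Fin (Nat.card M + 1), a ≠ b ∧ x ^ (a : ℕ) = x ^ (b : ℕ) := by
    have h := Fintype.exists_ne_map_eq_of_card_lt (fun i : Fin (Nat.card M + 1) => x ^ (i : ℕ)) (by
      rw [Fintype.card_fin, Nat.card_eq_fintype_card]; exact Nat.lt_succ_self _)
    obtain ⟨a, b, h1, h2⟩ := h
    exact ⟨a, b, h1, h2⟩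
  wlog hlt : (a : ℕ) < b generalizing a b
  · exact this b a hab.symm hne.symm (lt_of_le_of_ne (not_lt.1 hlt) (fun h => hab (Fin.ext h).symm))
  obtain ⟨t, ht⟩ : ∃ t, (b : ℕ) = a + t := ⟨b - a, by omega⟩
  have htpos : 0 < t := by omega
  have htle : t ≤ Nat.card M := by have := b.2; omega
  have hale : (a : ℕ) ≤ Nat.card M := by have := a.2; omega
  have key : ∀ k : ℕ, ∀ n : ℕ, (a : ℕ) ≤ n → x ^ (n + k * t) = x ^ n := by
    intro k
    induction k with
    | zero => intro n _; simp
    | succ k ih =>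
      intro n hn
      have h1 : n + (k + 1) * t = (n - a) + (a + t) + k * t := by
        have : n = (n - a) + a := by omega
        rw [Nat.add_mul]; omega
      rw [h1, ih _ (by omega), pow_add, ← ht, ← hne, ← pow_add]
      congr 1; omega
  obtain ⟨k, hk⟩ : t ∣ (Nat.card M).factorial := Nat.dvd_factorial htpos htle
  have hge : (a : ℕ) ≤ (Nat.card M).factorial := hale.trans (Nat.self_le_factorial _)
  rw [← pow_add]
  conv_lhs => rw [show (Nat.card M).factorial + (Nat.card M).factorial = (Nat.card M).factorial + k * t by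
    rw [Nat.mul_comm k t, ← hk]]
  exact key k _ hge

variable {S : Type*} [CommRing S] [Finite S]

theorem hilbert90 (τ : S →+* S) (hτ : ∀ x, τ (τ x) = x) (u : S) (hu : IsUnit (u - τ u)) (c : S)
    (hc : c * τ c = 1) : ∃ d, IsUnit d ∧ c * τ d = d := by
  obtain ⟨N, hN⟩ : ∃ N, N = (Nat.card S).factorial := ⟨_, rfl⟩
  have hid : ∀ x : S, x ^ N * x ^ N = x ^ N := by
    intro x; rw [hN]; exact pow_factorial_mul_self x
  have hNpos : 0 < N := by rw [hN]; exact Nat.factorial_pos _
  have hcu : IsUnit c := IsUnit.of_mul_eq_one (τ c) hc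
  have hcN : c ^ N = 1 := by
    have h1 := hid c
    have h2 : IsUnit (c ^ N) := hcu.pow N
    exact h2.mul_left_cancel (by rw [h1, mul_one])
  obtain ⟨d1, hd1⟩ : ∃ d1, d1 = 1 + c := ⟨_, rfl⟩
  obtain ⟨d2, hd2⟩ : ∃ d2, d2 = u + c * τ u := ⟨_, rfl⟩
  obtain ⟨e, he⟩ : ∃ e, e = d1 ^ N := ⟨_, rfl⟩
  have hee : e * e = e := by rw [he]; exact hid d1
  have hcd1 : c * τ d1 = d1 := by
    rw [hd1, map_add, map_one, mul_add, hc]; ring
  have hcd2 : c * τ d2 = d2 := by
    rw [hd2, map_add, map_mul, hτ, mul_add, ← mul_assoc, hc]; ring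
  have hτe : τ e = e := by
    rw [he, map_pow]
    conv_rhs => rw [← hcd1, mul_pow, hcN, one_mul]
  refine ⟨e * d1 + (1 - e) * d2, ?_, ?_⟩
  · -- unit
    obtain ⟨v, hv⟩ := hu
    have hd2' : d2 = v + τ u * d1 := by
      rw [hv, hd1, hd2]; ring
    have hnil : IsNilpotent (τ u * ((1 - e) * d1)) := by
      refine ⟨N, ?_⟩
      rw [mul_pow, mul_pow, ← he]
      have h1 : (1 - e) ^ N * e = 0 := by
        obtain ⟨k, rfl⟩ : ∃ k, N = k + 1 := ⟨N - 1, by omega⟩
        rw [pow_succ, mul_assoc]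
        have : (1 - e) * e = 0 := by linear_combination -hee
        rw [this, mul_zero]
      rw [h1, mul_zero]
    obtain ⟨w, hw⟩ : IsUnit ((v : S) + τ u * ((1 - e) * d1)) := by
      exact (hnil.isUnit_add_left_of_commute v.isUnit (Commute.all _ _))
    have hw1 : (w : S) * ((w⁻¹ : Sˣ) : S) = 1 := Units.mul_inv w
    have hpow : e * (d1 * d1 ^ (N - 1)) = e := by
      rw [← pow_succ', Nat.sub_add_cancel hNpos, ← he, hee]
    have h1e : (1 - e) * d2 = (1 - e) * w := by
      rw [hw, hd2']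
      have h3 : (1 - e) * (1 - e) = 1 - e := by linear_combination hee
      linear_combination (-(τ u * d1)) * h3
    refine IsUnit.of_mul_eq_one (e * d1 ^ (N - 1) + (1 - e) * ((w⁻¹ : Sˣ) : S)) ?_
    have h2 : (1 - e) * e = 0 := by linear_combination -hee
    rw [h1e]
    have h4 : (1 - e) * (1 - e) = 1 - e := by linear_combination hee
    calc (e * d1 + (1 - e) * (w : S)) * (e * d1 ^ (N - 1) + (1 - e) * ((w⁻¹ : Sˣ) : S))
        = (e * e) * (d1 * d1 ^ (N - 1)) + ((1 - e) * (1 - e)) * ((w : S) * ((w⁻¹ : Sˣ) : S)) +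
          ((1 - e) * e) * (d1 * ((w⁻¹ : Sˣ) : S) + w * d1 ^ (N - 1)) := by ring
      _ = 1 := by
          rw [hee, hpow, h4, hw1, h2]; ring
  · rw [map_add, map_mul, map_mul, map_sub, map_one, hτe]
    linear_combination e * hcd1 + (1 - e) * hcd2

theorem norm_surj (τ : S →+* S) (hτ : ∀ x, τ (τ x) = x) (u : S) (hu : IsUnit (u - τ u)) (s : S)
    (hs : IsUnit s) (hτs : τ s = s) : ∃ d, IsUnit d ∧ d * τ d = s := by
  classical
  -- the units
  let T : Sˣ →* Sˣ := Units.map τ
  have hT : ∀ x : Sˣ, ((T x : Sˣ) : S) = τ x := fun x => rfl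
  have hTT : ∀ x, T (T x) = x := fun x => Units.ext (hτ x)
  let N : Sˣ →* Sˣ := MonoidHom.id Sˣ * T
  let D : Sˣ →* Sˣ := MonoidHom.id Sˣ / T
  have hN : ∀ x, N x = x * T x := fun x => rfl
  have hD : ∀ x, D x = x / T x := fun x => rfl
  have hker : N.ker ≤ D.range := by
    intro c hc
    rw [MonoidHom.mem_ker, hN] at hc
    have hc' : (c : S) * τ c = 1 := by
      rw [← hT, ← Units.val_mul, hc, Units.val_one]
    obtain ⟨d, ⟨d', rfl⟩, hd⟩ := hilbert90 τ hτ u hu (c : S) hc'
    refine ⟨d', ?_⟩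
    rw [hD, div_eq_iff_eq_mul]
    exact Units.ext (by rw [Units.val_mul, hT]; exact hd.symm)
  have hrange : N.range ≤ D.ker := by
    rintro _ ⟨c, rfl⟩
    rw [MonoidHom.mem_ker, hD, hN, map_mul, hTT, mul_comm (T c) c, div_self']
  have hfin : Finite Sˣ := inferInstance
  have c1 : Nat.card N.ker * Nat.card N.range = Nat.card Sˣ := by
    rw [← Nat.card_congr (QuotientGroup.quotientKerEquivRange N).toEquiv, mul_comm,
      ← Subgroup.card_eq_card_quotient_mul_card_subgroup]
  have c2 : Nat.card D.ker * Nat.card D.range = Nat.card Sˣ := by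
    rw [← Nat.card_congr (QuotientGroup.quotientKerEquivRange D).toEquiv, mul_comm,
      ← Subgroup.card_eq_card_quotient_mul_card_subgroup]
  have c3 : Nat.card N.ker ≤ Nat.card D.range := Nat.card_le_card_of_injective _ (Subgroup.inclusion_injective hker)
  have c4 : Nat.card N.range ≤ Nat.card D.ker := Nat.card_le_card_of_injective _ (Subgroup.inclusion_injective hrange)
  have c5 : Nat.card N.range = Nat.card D.ker := by
    have p1 : 0 < Nat.card D.range := Nat.card_pos
    by_contra hne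
    have hlt : Nat.card N.range < Nat.card D.ker := lt_of_le_of_ne c4 hne
    have : Nat.card N.ker * Nat.card N.range < Nat.card D.ker * Nat.card D.range := by
      calc Nat.card N.ker * Nat.card N.range ≤ Nat.card D.range * Nat.card N.range := Nat.mul_le_mul_right _ c3
        _ < Nat.card D.range * Nat.card D.ker := Nat.mul_lt_mul_of_pos_left hlt p1
        _ = _ := mul_comm _ _
    omega
  have heq : N.range = D.ker := Subgroup.eq_of_le_of_card_ge hrange c5.ge
  obtain ⟨s', rfl⟩ := hs
  have hmem : s' ∈ D.ker := by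
    rw [MonoidHom.mem_ker, hD, div_eq_one]
    exact Units.ext hτs.symm
  rw [← heq] at hmem
  obtain ⟨d, hd⟩ := hmem
  refine ⟨d, d.isUnit, ?_⟩
  rw [← hd, hN, Units.val_mul, hT]

end Cfsg.Agent.H193.Hilb
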