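import Mathlib
import Cfsg.Agent.H193.Hilb

/-!
# Hilbert 90 and norms for adjoint pairs in a finite ring

`M` finite ring, `P a a'` a relation with the formal properties of "`a'` is adjoint to `a` and conversely".
-/

set_option autoImplicit false

namespace Cfsg.Agent.H193.AdjRing

variable {M : Type*} [Ring M]

/-- formal properties of the relation "adjoint pair" -/
structure Adj (P : M → M → Prop) : Prop where
  zero : P 0 0
  one : P 1 1
  add : ∀ {a a' b b'}, P a a' → P b b' → P (a + b) (a' + b')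
  neg : ∀ {a a'}, P a a' → P (-a) (-a')
  mul : ∀ {a a' b b'}, P a a' → P b b' → P (a * b) (b' * a')
  symm : ∀ {a a'}, P a a' → P a' a

variable {P : M → M → Prop}

theorem cc_comm {X : Set M} (hX : ∀ x ∈ X, ∀ y ∈ X, x * y = y * x) {a b : M}
    (ha : a ∈ X.centralizer.centralizer) (hb : b ∈ X.centralizer.centralizer) : a * b = b * a := by
  have h1 : ∀ x ∈ X, x ∈ X.centralizer := fun x hx => by
    rw [Set.mem_centralizer_iff]; intro y hy; exact hX y hy x hx
  have h2 : b ∈ X.centralizer := by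
    rw [Set.mem_centralizer_iff]
    intro x hx
    exact (Set.mem_centralizer_iff.1 hb) x (h1 x hx)
  exact ((Set.mem_centralizer_iff.1 ha) b h2).symm

/-- the ring of adjoint pairs in the double centralizer of a commuting set -/
def SS (hP : Adj P) (X : Set M) (hX : ∀ x ∈ X, ∀ y ∈ X, x * y = y * x) : Subring (M × M) where
  carrier := {p | P p.1 p.2 ∧ p.1 ∈ X.centralizer.centralizer ∧ p.2 ∈ X.centralizer.centralizer}
  mul_mem' := by
    rintro ⟨a, a'⟩ ⟨b, b'⟩ ⟨h1, h2, h3⟩ ⟨h4, h5, h6⟩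
    refine ⟨?_, Set.mul_mem_centralizer h2 h5, Set.mul_mem_centralizer h3 h6⟩
    have := hP.mul h1 h4
    rwa [cc_comm hX h6 h3] at this
  one_mem' := ⟨hP.one, Set.one_mem_centralizer, Set.one_mem_centralizer⟩
  add_mem' := by
    rintro ⟨a, a'⟩ ⟨b, b'⟩ ⟨h1, h2, h3⟩ ⟨h4, h5, h6⟩
    exact ⟨hP.add h1 h4, Set.add_mem_centralizer h2 h5, Set.add_mem_centralizer h3 h6⟩
  zero_mem' := ⟨hP.zero, Set.zero_mem_centralizer, Set.zero_mem_centralizer⟩
  neg_mem' := by
    rintro ⟨a, a'⟩ ⟨h1, h2, h3⟩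
    exact ⟨hP.neg h1, Set.neg_mem_centralizer h2, Set.neg_mem_centralizer h3⟩

theorem mem_SS {hP : Adj P} {X : Set M} {hX : ∀ x ∈ X, ∀ y ∈ X, x * y = y * x} {p : M × M} :
    p ∈ SS hP X hX ↔ P p.1 p.2 ∧ p.1 ∈ X.centralizer.centralizer ∧ p.2 ∈ X.centralizer.centralizer := Iff.rfl

/-- the ring is commutative -/
abbrev commRing (hP : Adj P) (X : Set M) (hX : ∀ x ∈ X, ∀ y ∈ X, x * y = y * x) : CommRing (SS hP X hX) :=
  { (SS hP X hX).toRing with
    mul_comm := by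
      rintro ⟨⟨a, a'⟩, h1, h2, h3⟩ ⟨⟨b, b'⟩, h4, h5, h6⟩
      exact Subtype.ext (Prod.ext (cc_comm hX h2 h5) (cc_comm hX h3 h6)) }

/-- the involution -/
def tau (hP : Adj P) (X : Set M) (hX : ∀ x ∈ X, ∀ y ∈ X, x * y = y * x) : SS hP X hX →+* SS hP X hX where
  toFun p := ⟨(p.1.2, p.1.1), hP.symm p.2.1, p.2.2.2, p.2.2.1⟩
  map_one' := rfl
  map_mul' _ _ := rfl
  map_zero' := rfl
  map_add' _ _ := rfl

theorem isUnit_of_val {R : Type*} [Ring R] [Finite R] (S : Subring R) (s : S) (hs : IsUnit (s : R)) : IsUnit s := by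
  have h1 := Hilb.pow_factorial_mul_self s
  have h2 : IsUnit ((s : R) ^ (Nat.card S).factorial) := hs.pow _
  have h3 : (s : R) ^ (Nat.card S).factorial * (s : R) ^ (Nat.card S).factorial = (s : R) ^ (Nat.card S).factorial := by
    have := congrArg (Subtype.val) h1
    simpa using this
  have h4 : (s : R) ^ (Nat.card S).factorial = 1 := h2.mul_left_cancel (by rw [h3, mul_one])
  have h5 : s ^ (Nat.card S).factorial = 1 := Subtype.ext (by simpa using h4)
  exact IsUnit.of_pow_eq_one h5 (Nat.factorial_pos _).ne'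

variable [Finite M]

theorem hilbert90 (hP : Adj P) {w w' k k' : M} (hw : P w w') (hk : P k k') (hkk : k * k' = 1) (hkk' : k' * k = 1)
    (hu : IsUnit (w - w'))
    (c1 : w * w' = w' * w) (c2 : w * k = k * w) (c3 : w * k' = k' * w) (c4 : w' * k = k * w') (c5 : w' * k' = k' * w') :
    ∃ d d' : M, P d d' ∧ IsUnit d ∧ IsUnit d' ∧ k * d' = d ∧
      ∀ a, a * w = w * a → a * w' = w' * a → a * k = k * a → a * k' = k' * a → a * d = d * a ∧ a * d' = d' * a := by
  obtain ⟨X, hXd⟩ : ∃ X : Set M, X = {w, w', k, k'} := ⟨_, rfl⟩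
  have hX : ∀ x ∈ X, ∀ y ∈ X, x * y = y * x := by
    rw [hXd]
    have hkc : k * k' = k' * k := hkk.trans hkk'.symm
    rintro x (rfl | rfl | rfl | rfl) y (rfl | rfl | rfl | rfl) <;> first | rfl | assumption | (symm; assumption)
  have hsub : ∀ x ∈ X, x ∈ X.centralizer.centralizer := fun x hx => Set.subset_centralizer_centralizer hx
  let _ := commRing hP X hX
  have hmw : (w, w') ∈ SS hP X hX := ⟨hw, hsub _ (by simp [hXd]), hsub _ (by simp [hXd])⟩
  have hmk : (k, k') ∈ SS hP X hX := ⟨hk, hsub _ (by simp [hXd]), hsub _ (by simp [hXd])⟩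
  have hunit : IsUnit ((⟨(w, w'), hmw⟩ : SS hP X hX) - tau hP X hX ⟨(w, w'), hmw⟩) := by
    apply isUnit_of_val
    show IsUnit ((w - w', w' - w) : M × M)
    rw [Prod.isUnit_iff]
    refine ⟨hu, ?_⟩
    show IsUnit (w' - w)
    rw [← neg_sub]
    exact hu.neg
  obtain ⟨d, hd, hd'⟩ := Hilb.hilbert90 (tau hP X hX) (fun _ => rfl) ⟨(w, w'), hmw⟩ hunit ⟨(k, k'), hmk⟩
    (Subtype.ext (Prod.ext hkk hkk'))
  have hdu : IsUnit (d : M × M) := hd.map (SS hP X hX).subtype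
  rw [Prod.isUnit_iff] at hdu
  refine ⟨d.1.1, d.1.2, d.2.1, hdu.1, hdu.2, congrArg (fun p => p.1.1) hd', fun a h1 h2 h3 h4 => ?_⟩
  have ha : a ∈ X.centralizer := by
    rw [Set.mem_centralizer_iff, hXd]
    rintro x (rfl | rfl | rfl | rfl) <;> (symm; assumption)
  exact ⟨(Set.mem_centralizer_iff.1 d.2.2.1) a ha, (Set.mem_centralizer_iff.1 d.2.2.2) a ha⟩

theorem norm_surj (hP : Adj P) {w w' c : M} (hw : P w w') (hc : P c c) (hcu : IsUnit c)
    (hu : IsUnit (w - w'))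
    (c1 : w * w' = w' * w) (c2 : w * c = c * w) (c4 : w' * c = c * w') :
    ∃ d d' : M, P d d' ∧ IsUnit d ∧ IsUnit d' ∧ d * d' = c ∧
      ∀ a, a * w = w * a → a * w' = w' * a → a * c = c * a → a * d = d * a ∧ a * d' = d' * a := by
  obtain ⟨X, hXd⟩ : ∃ X : Set M, X = {w, w', c} := ⟨_, rfl⟩
  have hX : ∀ x ∈ X, ∀ y ∈ X, x * y = y * x := by
    rw [hXd]
    rintro x (rfl | rfl | rfl) y (rfl | rfl | rfl) <;> first | rfl | assumption | (symm; assumption)
  have hsub : ∀ x ∈ X, x ∈ X.centralizer.centralizer := fun x hx => Set.subset_centralizer_centralizer hx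
  let _ := commRing hP X hX
  have hmw : (w, w') ∈ SS hP X hX := ⟨hw, hsub _ (by simp [hXd]), hsub _ (by simp [hXd])⟩
  have hmc : (c, c) ∈ SS hP X hX := ⟨hc, hsub _ (by simp [hXd]), hsub _ (by simp [hXd])⟩
  have hunit : IsUnit ((⟨(w, w'), hmw⟩ : SS hP X hX) - tau hP X hX ⟨(w, w'), hmw⟩) := by
    apply isUnit_of_val
    show IsUnit ((w - w', w' - w) : M × M)
    rw [Prod.isUnit_iff]
    refine ⟨hu, ?_⟩
    show IsUnit (w' - w)
    rw [← neg_sub]
    exact hu.neg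
  have hcunit : IsUnit (⟨(c, c), hmc⟩ : SS hP X hX) := by
    apply isUnit_of_val
    exact Prod.isUnit_iff.2 ⟨hcu, hcu⟩
  obtain ⟨d, hd, hd'⟩ := Hilb.norm_surj (tau hP X hX) (fun _ => rfl) ⟨(w, w'), hmw⟩ hunit ⟨(c, c), hmc⟩ hcunit rfl
  have hdu : IsUnit (d : M × M) := hd.map (SS hP X hX).subtype
  rw [Prod.isUnit_iff] at hdu
  refine ⟨d.1.1, d.1.2, d.2.1, hdu.1, hdu.2, congrArg (fun p => p.1.1) hd', fun a h1 h2 h3 => ?_⟩
  have ha : a ∈ X.centralizer := by
    rw [Set.mem_centralizer_iff, hXd]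
    rintro x (rfl | rfl | rfl) <;> (symm; assumption)
  exact ⟨(Set.mem_centralizer_iff.1 d.2.2.1) a ha, (Set.mem_centralizer_iff.1 d.2.2.2) a ha⟩

end Cfsg.Agent.H193.AdjRing
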