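import Mathlib
import Cfsg.Agent.H193.AdjRing
import Cfsg.Agent.ClassicalGeometry.WittQuad

/-!
# Invariant forms of an isometry without eigenvalues ±1, finite fields

* `exists_isometry` : two `ε`-symmetric invariant forms of conjugate elements are equivalent;
* `exists_form` : if there is an invariant nondegenerate bilinear form then there is an `ε`-symmetric one;
* `exists_quad`, `exists_isometry_quad` : the same for quadratic forms, any characteristic;
* `exists_conj_quad` : elements of odd order prime to the characteristic of an orthogonal group which are conjugate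
  in the general linear group are conjugate in the orthogonal group.
-/

set_option autoImplicit false

namespace Cfsg.Agent.H193.InvForm

open LinearMap Module

variable {F : Type*} [Field F] {V W : Type*} [AddCommGroup V] [Module F V] [AddCommGroup W] [Module F W]

/-- adjoint pairs for a bilinear form -/
def AP (b : V →ₗ[F] V →ₗ[F] F) (a a' : Module.End F V) : Prop :=
  (∀ u v, b (a u) v = b u (a' v)) ∧ ∀ u v, b (a' u) v = b u (a v)

theorem adj_AP (b : V →ₗ[F] V →ₗ[F] F) : AdjRing.Adj (AP b) where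
  zero := ⟨fun u v => by simp, fun u v => by simp⟩
  one := ⟨fun u v => rfl, fun u v => rfl⟩
  add := fun {a a' b' b''} h1 h2 => ⟨fun u v => by
    simp only [LinearMap.add_apply, map_add, h1.1 u v, h2.1 u v], fun u v => by
    simp only [LinearMap.add_apply, map_add, h1.2 u v, h2.2 u v]⟩
  neg := fun {a a'} h1 => ⟨fun u v => by
    simp only [LinearMap.neg_apply, map_neg, h1.1 u v], fun u v => by
    simp only [LinearMap.neg_apply, map_neg, h1.2 u v]⟩
  mul := fun {a a' c c'} h1 h2 => ⟨fun u v => by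
    rw [Module.End.mul_apply, Module.End.mul_apply, h1.1, h2.1], fun u v => by
    rw [Module.End.mul_apply, Module.End.mul_apply, h2.2, h1.2]⟩
  symm := fun {a a'} h1 => ⟨h1.2, h1.1⟩

/-- a nondegenerate form gives a linear equivalence with the dual -/
theorem exists_repr [FiniteDimensional F V] (b : V →ₗ[F] V →ₗ[F] F) (hb : ∀ u, (∀ v, b u v = 0) → u = 0) :
    ∃ e : V ≃ₗ[F] Module.Dual F V, ∀ u v, e u v = b u v := by
  have hinj : Function.Injective (b : V →ₗ[F] Module.Dual F V) := by
    rw [← LinearMap.ker_eq_bot, LinearMap.ker_eq_bot']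
    intro m hm
    exact hb m fun v => by rw [hm]; rfl
  refine ⟨LinearEquiv.ofBijective (b : V →ₗ[F] Module.Dual F V) ⟨hinj, ?_⟩, fun u v => rfl⟩
  exact (LinearMap.injective_iff_surjective_of_finrank_eq_finrank Subspace.dual_finrank_eq.symm).1 hinj

theorem isUnit_of_inj [FiniteDimensional F V] (a : Module.End F V) (ha : ∀ v, a v = 0 → v = 0) : IsUnit a := by
  rw [LinearMap.isUnit_iff_ker_eq_bot, LinearMap.ker_eq_bot']
  exact ha

theorem nondeg_right [FiniteDimensional F V] (b : V →ₗ[F] V →ₗ[F] F) (hb : ∀ u, (∀ v, b u v = 0) → u = 0)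
    (v : V) (hv : ∀ u, b u v = 0) : v = 0 := by
  obtain ⟨e, he⟩ := exists_repr b hb
  by_contra hne
  obtain ⟨f, hf⟩ : ∃ f : Module.Dual F V, f v ≠ 0 := by
    by_contra h0
    push Not at h0
    exact hne ((Module.forall_dual_apply_eq_zero_iff F v).1 h0)
  obtain ⟨u, rfl⟩ := e.surjective f
  exact hf (by rw [he]; exact hv u)

theorem finite_end [Finite F] [FiniteDimensional F V] : Finite (Module.End F V) := by
  have : Finite V := Module.finite_of_finite F
  exact DFunLike.finite _

/-- **Uniqueness of invariant `ε`-symmetric forms.** -/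
theorem exists_isometry [Finite F] [FiniteDimensional F V] [FiniteDimensional F W]
    (B : V →ₗ[F] V →ₗ[F] F) (C : W →ₗ[F] W →ₗ[F] F) (ε : F)
    (hB : ∀ u, (∀ v, B u v = 0) → u = 0) (hC : ∀ u, (∀ v, C u v = 0) → u = 0)
    (hBs : ∀ u v, B v u = ε * B u v) (hCs : ∀ u v, C v u = ε * C u v)
    (g : V ≃ₗ[F] V) (h : W ≃ₗ[F] W) (hgB : ∀ u v, B (g u) (g v) = B u v) (hhC : ∀ u v, C (h u) (h v) = C u v)
    (hg : ∀ v, g (g v) = v → v = 0) (x : V ≃ₗ[F] W) (hx : ∀ v, x (g v) = h (x v)) :
    ∃ z : V ≃ₗ[F] W, (∀ v, z (g v) = h (z v)) ∧ ∀ u v, C (z u) (z v) = B u v := by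
  obtain ⟨e, he⟩ := exists_repr B hB
  let c : Module.End F V := e.symm.toLinearMap ∘ₗ (C.compl₁₂ x.toLinearMap x.toLinearMap)
  have hc : ∀ u v, B (c u) v = C (x u) (x v) := by
    intro u v
    rw [← he]
    show e (e.symm ((C.compl₁₂ x.toLinearMap x.toLinearMap) u)) v = _
    rw [LinearEquiv.apply_symm_apply]
    rfl
  have hgB' : ∀ u v, B (g.symm u) v = B u (g v) := fun u v => by
    rw [← hgB (g.symm u) v, LinearEquiv.apply_symm_apply]
  have hgB'' : ∀ u v, B u (g.symm v) = B (g u) v := fun u v => by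
    rw [← hgB u (g.symm v), LinearEquiv.apply_symm_apply]
  have hhC' : ∀ u v, C (h u) v = C u (h.symm v) := fun u v => by
    rw [← hhC u (h.symm v), LinearEquiv.apply_symm_apply]
  have hxs : ∀ v, x (g.symm v) = h.symm (x v) := fun v => by
    rw [LinearEquiv.eq_symm_apply, ← hx, LinearEquiv.apply_symm_apply]
  have hsep : ∀ a a' : V, (∀ v, B a v = B a' v) → a = a' := fun a a' haa => by
    rw [← sub_eq_zero]
    apply hB
    intro v
    rw [map_sub, LinearMap.sub_apply, haa v, sub_self]
  have hcg : ∀ u, c (g u) = g (c u) := fun u => by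
    apply hsep
    intro v
    rw [hc, hx, hhC', ← hxs, ← hc, hgB'']
  have hcself : ∀ u v, B (c u) v = B u (c v) := fun u v => by
    rw [hBs (c v) u, hc, hc, hCs (x v) (x u)]
  have hcunit : IsUnit c := by
    apply isUnit_of_inj
    intro v hv
    have h1 : ∀ w, C (x v) w = 0 := fun w => by
      obtain ⟨w, rfl⟩ := x.surjective w
      rw [← hc, hv, map_zero, LinearMap.zero_apply]
    exact x.map_eq_zero_iff.1 (hC _ h1)
  have : Finite (Module.End F V) := finite_end
  have hggs : (g.toLinearMap * g.symm.toLinearMap : Module.End F V) = 1 :=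
    LinearMap.ext fun v => g.apply_symm_apply v
  have hggs' : (g.symm.toLinearMap * g.toLinearMap : Module.End F V) = 1 :=
    LinearMap.ext fun v => g.symm_apply_apply v
  have hcg1 : g.toLinearMap * c = c * g.toLinearMap := LinearMap.ext fun v => (hcg v).symm
  have hcg2 : g.symm.toLinearMap * c = c * g.symm.toLinearMap := LinearMap.ext fun v => by
    show g.symm (c v) = c (g.symm v)
    rw [LinearEquiv.symm_apply_eq, ← hcg, LinearEquiv.apply_symm_apply]
  have hAP : AP B g.toLinearMap g.symm.toLinearMap :=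
    ⟨fun u v => by
      show B (g u) v = B u (g.symm v)
      rw [hgB''], fun u v => by
      show B (g.symm u) v = B u (g v)
      rw [hgB']⟩
  have hunit : IsUnit (g.toLinearMap - g.symm.toLinearMap : Module.End F V) := by
    apply isUnit_of_inj
    intro v hv
    apply hg
    have h1 : g v = g.symm v := sub_eq_zero.1 hv
    rw [h1, LinearEquiv.apply_symm_apply]
  obtain ⟨d, d', hdd, -, hd'u, hdc, hcomm⟩ := AdjRing.norm_surj (adj_AP B) hAP (⟨hcself, hcself⟩ : AP B c c) hcunit hunit
    (hggs.trans hggs'.symm) hcg1 hcg2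
  have hd'g := (hcomm g.toLinearMap rfl (hggs.trans hggs'.symm) hcg1).2
  let de : V ≃ₗ[F] V := LinearEquiv.ofBijective d' ((Module.End.isUnit_iff d').1 hd'u)
  have hde : ∀ v, de v = d' v := fun v => rfl
  have hdeg : ∀ v, de (g v) = g (de v) := fun v => (LinearMap.congr_fun hd'g v).symm
  refine ⟨de.symm.trans x, fun v => ?_, fun u v => ?_⟩
  · obtain ⟨v, rfl⟩ := de.surjective v
    rw [← hdeg, LinearEquiv.trans_apply, LinearEquiv.trans_apply, LinearEquiv.symm_apply_apply,
      LinearEquiv.symm_apply_apply, hx]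
  · obtain ⟨u, rfl⟩ := de.surjective u
    obtain ⟨v, rfl⟩ := de.surjective v
    rw [LinearEquiv.trans_apply, LinearEquiv.trans_apply, LinearEquiv.symm_apply_apply,
      LinearEquiv.symm_apply_apply, ← hc, ← hdc, Module.End.mul_apply, hdd.1, hde, hde]

/-- **Existence of invariant `ε`-symmetric forms.** -/
theorem exists_form [Finite F] [FiniteDimensional F V]
    (b : V →ₗ[F] V →ₗ[F] F) (hb : ∀ u, (∀ v, b u v = 0) → u = 0) (ε : F) (hε : ε * ε = 1)
    (g : V ≃ₗ[F] V) (hgb : ∀ u v, b (g u) (g v) = b u v) (hg : ∀ v, g (g v) = v → v = 0) :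
    ∃ B : V →ₗ[F] V →ₗ[F] F, (∀ u, (∀ v, B u v = 0) → u = 0) ∧ (∀ u v, B v u = ε * B u v) ∧
      ∀ u v, B (g u) (g v) = B u v := by
  have hb' : ∀ u, (∀ v, b.flip u v = 0) → u = 0 := fun u hu => nondeg_right b hb u hu
  obtain ⟨e, he⟩ := exists_repr b.flip hb'
  let s : Module.End F V := e.symm.toLinearMap ∘ₗ b
  have hs : ∀ u v, b u (s v) = b v u := by
    intro u v
    have h1 : b.flip (s v) u = b v u := by
      rw [← he]
      show e (e.symm (b v)) u = b v u
      rw [LinearEquiv.apply_symm_apply]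
    exact h1
  have hsinj : ∀ v, s v = 0 → v = 0 := fun v hv => hb v fun u => by rw [← hs, hv, map_zero]
  have hsunit : IsUnit s := isUnit_of_inj s hsinj
  let se : V ≃ₗ[F] V := LinearEquiv.ofBijective s ((Module.End.isUnit_iff s).1 hsunit)
  have hse : ∀ v, se v = s v := fun v => rfl
  have hsep : ∀ a a' : V, (∀ u, b u a = b u a') → a = a' := fun a a' haa => by
    rw [← sub_eq_zero]
    apply nondeg_right b hb
    intro u
    rw [map_sub, haa u, sub_self]
  have hgb1 : ∀ u v, b (g.symm u) v = b u (g v) := fun u v => by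
    rw [← hgb (g.symm u) v, LinearEquiv.apply_symm_apply]
  have hgb2 : ∀ u v, b u (g.symm v) = b (g u) v := fun u v => by
    rw [← hgb u (g.symm v), LinearEquiv.apply_symm_apply]
  have hsg : ∀ v, s (g v) = g (s v) := fun v => by
    apply hsep
    intro u
    rw [hs, ← hgb1, hs, hgb2]
  have hss : ∀ u v, b (s u) (s v) = b u v := fun u v => by rw [hs, hs]
  have hss1 : ∀ u v, b (s u) v = b u (se.symm v) := fun u v => by
    rw [← hss u (se.symm v), ← hse (se.symm v), LinearEquiv.apply_symm_apply]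
  have hss2 : ∀ u v, b (se.symm u) v = b u (s v) := fun u v => by
    rw [← hss (se.symm u) v, ← hse (se.symm u), LinearEquiv.apply_symm_apply]
  have : Finite (Module.End F V) := finite_end
  have hggs : (g.toLinearMap * g.symm.toLinearMap : Module.End F V) = 1 :=
    LinearMap.ext fun v => g.apply_symm_apply v
  have hggs' : (g.symm.toLinearMap * g.toLinearMap : Module.End F V) = 1 :=
    LinearMap.ext fun v => g.symm_apply_apply v
  have hAP : AP b g.toLinearMap g.symm.toLinearMap :=
    ⟨fun u v => by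
      show b (g u) v = b u (g.symm v)
      rw [hgb2], fun u v => by
      show b (g.symm u) v = b u (g v)
      rw [hgb1]⟩
  have hunit : IsUnit (g.toLinearMap - g.symm.toLinearMap : Module.End F V) := by
    apply isUnit_of_inj
    intro v hv
    apply hg
    have h1 : g v = g.symm v := sub_eq_zero.1 hv
    rw [h1, LinearEquiv.apply_symm_apply]
  obtain ⟨k, hk⟩ : ∃ k : Module.End F V, k = ε • s := ⟨_, rfl⟩
  obtain ⟨k', hk'⟩ : ∃ k' : Module.End F V, k' = ε • se.symm.toLinearMap := ⟨_, rfl⟩
  have hkapp : ∀ v, k v = ε • s v := fun v => by rw [hk]; rfl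
  have hk'app : ∀ v, k' v = ε • se.symm v := fun v => by rw [hk']; rfl
  have hkP : AP b k k' := ⟨fun u v => by
      rw [hkapp, hk'app, map_smul, LinearMap.smul_apply, map_smul, hss1], fun u v => by
      rw [hkapp, hk'app, map_smul, LinearMap.smul_apply, map_smul, hss2]⟩
  have hkk : k * k' = 1 := LinearMap.ext fun v => by
    rw [Module.End.mul_apply, hk'app, hkapp, map_smul, smul_smul, hε, one_smul, ← hse, LinearEquiv.apply_symm_apply]
    rfl
  have hkk' : k' * k = 1 := LinearMap.ext fun v => by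
    rw [Module.End.mul_apply, hk'app, hkapp, map_smul, smul_smul, hε, one_smul, ← hse, LinearEquiv.symm_apply_apply]
    rfl
  have hgs_s : ∀ v, g.symm (s v) = s (g.symm v) := fun v => by
    rw [LinearEquiv.symm_apply_eq, ← hsg, LinearEquiv.apply_symm_apply]
  have hg_ss : ∀ v, g (se.symm v) = se.symm (g v) := fun v => by
    rw [LinearEquiv.eq_symm_apply, hse, hsg, ← hse, LinearEquiv.apply_symm_apply]
  have hgs_ss : ∀ v, g.symm (se.symm v) = se.symm (g.symm v) := fun v => by
    rw [LinearEquiv.symm_apply_eq, hg_ss, LinearEquiv.apply_symm_apply]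
  have q2 : g.toLinearMap * k = k * g.toLinearMap := LinearMap.ext fun v => by
    show g (k v) = k (g v)
    rw [hkapp, hkapp, map_smul, hsg]
  have q3 : g.toLinearMap * k' = k' * g.toLinearMap := LinearMap.ext fun v => by
    show g (k' v) = k' (g v)
    rw [hk'app, hk'app, map_smul, hg_ss]
  have q4 : g.symm.toLinearMap * k = k * g.symm.toLinearMap := LinearMap.ext fun v => by
    show g.symm (k v) = k (g.symm v)
    rw [hkapp, hkapp, map_smul, hgs_s]
  have q5 : g.symm.toLinearMap * k' = k' * g.symm.toLinearMap := LinearMap.ext fun v => by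
    show g.symm (k' v) = k' (g.symm v)
    rw [hk'app, hk'app, map_smul, hgs_ss]
  obtain ⟨d, d', hdd, hdu, hd'u, hkd, hcomm⟩ := AdjRing.hilbert90 (adj_AP b) hAP hkP hkk hkk' hunit
    (hggs.trans hggs'.symm) q2 q3 q4 q5
  have hdg := (hcomm g.toLinearMap rfl (hggs.trans hggs'.symm) q2 q3).1
  have hskk : s * k = k * s := LinearMap.ext fun v => by
    rw [Module.End.mul_apply, Module.End.mul_apply, hkapp, hkapp, map_smul]
  have hskk' : s * k' = k' * s := LinearMap.ext fun v => by
    rw [Module.End.mul_apply, Module.End.mul_apply, hk'app, hk'app, map_smul, ← hse, ← hse,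
      LinearEquiv.apply_symm_apply, LinearEquiv.symm_apply_apply]
  have hds := (hcomm s (LinearMap.ext fun v => hsg v) (LinearMap.ext fun v => (hgs_s v).symm) hskk hskk').2
  have hdg' : ∀ v, d (g v) = g (d v) := fun v => (LinearMap.congr_fun hdg v).symm
  have hds' : ∀ v, d' (s v) = ε • d v := fun v => by
    have h1 : s (d' v) = d' (s v) := LinearMap.congr_fun hds v
    have h2 : k (d' v) = d v := LinearMap.congr_fun hkd v
    rw [← h1, ← h2, hkapp, smul_smul, hε, one_smul]
  refine ⟨b.compl₂ d, fun u hu => ?_, fun u v => ?_, fun u v => ?_⟩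
  · apply hb
    intro v
    obtain ⟨v, rfl⟩ := ((Module.End.isUnit_iff d).1 hdu).2 v
    exact hu v
  · rw [LinearMap.compl₂_apply, LinearMap.compl₂_apply, ← hs, hdd.1, hds', map_smul, smul_eq_mul]
  · rw [LinearMap.compl₂_apply, LinearMap.compl₂_apply, hdg', hgb]

/-- an invariant form with `ε = -1` is alternating -/
theorem alt_of_skew [FiniteDimensional F V] (B : V →ₗ[F] V →ₗ[F] F) (hBs : ∀ u v, B v u = -1 * B u v)
    (g : V ≃ₗ[F] V) (hgB : ∀ u v, B (g u) (g v) = B u v) (hg : ∀ v, g (g v) = v → v = 0) (v : V) : B v v = 0 := by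
  obtain ⟨w, rfl⟩ : ∃ w, g w - w = v := by
    have h1 : IsUnit (g.toLinearMap - 1 : Module.End F V) := by
      apply isUnit_of_inj
      intro v hv
      have h2 : g v = v := sub_eq_zero.1 hv
      exact hg v (by rw [h2, h2])
    obtain ⟨w, hw⟩ := ((Module.End.isUnit_iff _).1 h1).2 v
    exact ⟨w, hw⟩
  have h1 := hBs w w
  have h2 := hBs (g w) w
  rw [map_sub, map_sub, LinearMap.sub_apply, LinearMap.sub_apply, hgB]
  linear_combination h1 - h2

section Quad

open QuadraticMap

/-- `g - 1` as an equivalence -/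
theorem exists_sub_one [FiniteDimensional F V] (g : V ≃ₗ[F] V) (hg : ∀ v, g (g v) = v → v = 0) :
    ∃ t : V ≃ₗ[F] V, ∀ v, t v = g v - v := by
  have h1 : IsUnit (g.toLinearMap - 1 : Module.End F V) := by
    apply isUnit_of_inj
    intro v hv
    have h2 : g v = v := sub_eq_zero.1 hv
    exact hg v (by rw [h2, h2])
  exact ⟨LinearEquiv.ofBijective _ ((Module.End.isUnit_iff _).1 h1), fun v => rfl⟩

theorem quad_eq (Q : QuadraticForm F V) (g : V ≃ₗ[F] V) (hgQ : ∀ v, Q (g v) = Q v) (w : V) :
    Q (g w - w) = - polarBilin Q (g w - w) w := by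
  have h1 := ClassicalGeometry.WittQuad.form_add Q (g w - w) w
  rw [sub_add_cancel, hgQ] at h1
  linear_combination -h1

theorem exists_quad [FiniteDimensional F V] (B : V →ₗ[F] V →ₗ[F] F) (hBs : ∀ u v, B v u = B u v)
    (g : V ≃ₗ[F] V) (hgB : ∀ u v, B (g u) (g v) = B u v) (hg : ∀ v, g (g v) = v → v = 0) :
    ∃ Q : QuadraticForm F V, (∀ u v, polarBilin Q u v = B u v) ∧ ∀ v, Q (g v) = Q v := by
  obtain ⟨t, ht⟩ := exists_sub_one g hg
  have hts : ∀ v, g (t.symm v) - t.symm v = v := fun v => by rw [← ht, LinearEquiv.apply_symm_apply]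
  have htg : ∀ v, t.symm (g v) = g (t.symm v) := fun v => by
    rw [LinearEquiv.symm_apply_eq, ht, ← map_sub, hts]
  refine ⟨LinearMap.BilinMap.toQuadraticMap (-(B.compl₂ t.symm.toLinearMap)), fun u v => ?_, fun v => ?_⟩
  · obtain ⟨u, rfl⟩ := t.surjective u
    obtain ⟨v, rfl⟩ := t.surjective v
    rw [polarBilin_apply_apply]
    simp only [LinearMap.BilinMap.polar_toQuadraticMap, LinearMap.neg_apply, LinearMap.compl₂_apply,
      LinearEquiv.coe_coe, LinearEquiv.symm_apply_apply]
    rw [ht, ht]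
    simp only [map_sub, LinearMap.sub_apply, hgB]
    rw [hBs u (g v), hBs u v]
    ring
  · rw [LinearMap.BilinMap.toQuadraticMap_apply, LinearMap.BilinMap.toQuadraticMap_apply, LinearMap.neg_apply,
      LinearMap.neg_apply, LinearMap.neg_apply, LinearMap.neg_apply, LinearMap.compl₂_apply, LinearMap.compl₂_apply,
      LinearEquiv.coe_coe, htg, hgB]

theorem exists_isometry_quad [Finite F] [FiniteDimensional F V] [FiniteDimensional F W]
    (Q : QuadraticForm F V) (Q' : QuadraticForm F W)
    (hQ : (polarBilin Q).Nondegenerate) (hQ' : (polarBilin Q').Nondegenerate)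
    (g : V ≃ₗ[F] V) (h : W ≃ₗ[F] W) (hgQ : ∀ v, Q (g v) = Q v) (hhQ : ∀ v, Q' (h v) = Q' v)
    (hg : ∀ v, g (g v) = v → v = 0) (x : V ≃ₗ[F] W) (hx : ∀ v, x (g v) = h (x v)) :
    ∃ z : V ≃ₗ[F] W, (∀ v, z (g v) = h (z v)) ∧ ∀ v, Q' (z v) = Q v := by
  have hgB : ∀ u v, polarBilin Q (g u) (g v) = polarBilin Q u v :=
    ClassicalGeometry.WittQuad.polar_map Q g (fun u v => map_add g u v) hgQ
  have hhB : ∀ u v, polarBilin Q' (h u) (h v) = polarBilin Q' u v :=
    ClassicalGeometry.WittQuad.polar_map Q' h (fun u v => map_add h u v) hhQ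
  obtain ⟨z, hz1, hz2⟩ := exists_isometry (polarBilin Q) (polarBilin Q') 1 hQ.1 hQ'.1
    (fun u v => by rw [one_mul]; exact ClassicalGeometry.WittQuad.polar_comm' Q v u)
    (fun u v => by rw [one_mul]; exact ClassicalGeometry.WittQuad.polar_comm' Q' v u)
    g h hgB hhB hg x hx
  refine ⟨z, hz1, fun v => ?_⟩
  obtain ⟨t, ht⟩ := exists_sub_one g hg
  obtain ⟨w, rfl⟩ := t.surjective v
  rw [ht, quad_eq Q g hgQ, map_sub, hz1, quad_eq Q' h hhQ, ← hz1, ← map_sub, hz2]

end Quad

end Cfsg.Agent.H193.InvForm
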