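import Mathlib
import Cfsg.Agent.H193.InvForm
import Cfsg.Prelude.Def_Classical

/-!
# Conjugacy in orthogonal groups of elements of odd order prime to the characteristic

* `exists_conj` : abstract version;
* `isConj_iff` : `A`, `B` in `isometryGroup F Q` (nondegenerate polar form) with `A ^ N = 1 = B ^ N`, `N` odd, `N ≠ 0` in
  `F`, are conjugate in the isometry group iff they are conjugate as matrices.
-/

set_option autoImplicit false

namespace Cfsg.Agent.H193.OrthConj

open LinearMap Module QuadraticMap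

variable {F : Type*} [Field F] {V : Type*} [AddCommGroup V] [Module F V]

/-- the sum of the powers -/
def T (g : V ≃ₗ[F] V) (N : ℕ) : V →ₗ[F] V := ∑ k ∈ Finset.range N, ((g.toLinearMap : Module.End F V) ^ k)

theorem T_apply (g : V ≃ₗ[F] V) (N : ℕ) (v : V) :
    T g N v = ∑ k ∈ Finset.range N, ((g.toLinearMap : Module.End F V) ^ k) v := by
  rw [T, LinearMap.sum_apply]

theorem pow_apply_succ (g : V ≃ₗ[F] V) (k : ℕ) (v : V) :
    ((g.toLinearMap : Module.End F V) ^ (k + 1)) v = g (((g.toLinearMap : Module.End F V) ^ k) v) := by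
  rw [pow_succ']; rfl

theorem pow_apply_succ' (g : V ≃ₗ[F] V) (k : ℕ) (v : V) :
    ((g.toLinearMap : Module.End F V) ^ (k + 1)) v = ((g.toLinearMap : Module.End F V) ^ k) (g v) := by
  rw [pow_succ]; rfl

theorem g_T (g : V ≃ₗ[F] V) {N : ℕ} (hN : (g.toLinearMap : Module.End F V) ^ N = 1) (v : V) : g (T g N v) = T g N v := by
  rw [T_apply, map_sum]
  have h1 : ∑ k ∈ Finset.range N, g (((g.toLinearMap : Module.End F V) ^ k) v) =
      ∑ k ∈ Finset.range N, ((g.toLinearMap : Module.End F V) ^ (k + 1)) v :=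
    Finset.sum_congr rfl fun k _ => (pow_apply_succ g k v).symm
  rw [h1]
  have h2 := Finset.sum_range_succ (fun k => ((g.toLinearMap : Module.End F V) ^ k) v) N
  have h3 := Finset.sum_range_succ' (fun k => ((g.toLinearMap : Module.End F V) ^ k) v) N
  rw [h2, hN, pow_zero] at h3
  exact (add_right_cancel h3).symm

theorem T_g (g : V ≃ₗ[F] V) {N : ℕ} (hN : (g.toLinearMap : Module.End F V) ^ N = 1) (v : V) : T g N (g v) = T g N v := by
  rw [← g_T g hN v, T_apply, T_apply, map_sum]
  exact Finset.sum_congr rfl fun k _ => by rw [← pow_apply_succ', pow_apply_succ]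

theorem T_fixed (g : V ≃ₗ[F] V) (N : ℕ) {v : V} (hv : g v = v) : T g N v = (N : F) • v := by
  rw [T_apply]
  have h1 : ∀ k : ℕ, ((g.toLinearMap : Module.End F V) ^ k) v = v := by
    intro k
    induction k with
    | zero => rfl
    | succ k ih => rw [pow_apply_succ, ih, hv]
  rw [Finset.sum_congr rfl fun k _ => h1 k, Finset.sum_const, Finset.card_range, Nat.cast_smul_eq_nsmul]

theorem T_map {W : Type*} [AddCommGroup W] [Module F W] (g : V ≃ₗ[F] V) (h : W ≃ₗ[F] W) (N : ℕ) (x : V ≃ₗ[F] W)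
    (hx : ∀ v, x (g v) = h (x v)) (v : V) : x (T g N v) = T h N (x v) := by
  rw [T_apply, T_apply, map_sum]
  have h1 : ∀ k : ℕ, x (((g.toLinearMap : Module.End F V) ^ k) v) = ((h.toLinearMap : Module.End F W) ^ k) (x v) := by
    intro k
    induction k with
    | zero => rfl
    | succ k ih => rw [pow_apply_succ, pow_apply_succ, hx, ih]
  exact Finset.sum_congr rfl fun k _ => h1 k

variable {Q : QuadraticForm F V}

theorem polar_T (g : V ≃ₗ[F] V) (hgQ : ∀ v, Q (g v) = Q v) {N : ℕ} {u : V} (hu : g u = u) (v : V) :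
    polarBilin Q u (T g N v) = (N : F) * polarBilin Q u v := by
  have hgB : ∀ u v, polarBilin Q (g u) (g v) = polarBilin Q u v :=
    ClassicalGeometry.WittQuad.polar_map Q g (fun u v => map_add g u v) hgQ
  rw [T_apply, map_sum]
  have h1 : ∀ k : ℕ, polarBilin Q u (((g.toLinearMap : Module.End F V) ^ k) v) = polarBilin Q u v := by
    intro k
    induction k with
    | zero => rfl
    | succ k ih =>
      rw [pow_apply_succ, ← ih]
      conv_lhs => rw [← hu]
      exact hgB _ _
  rw [Finset.sum_congr rfl fun k _ => h1 k, Finset.sum_const, Finset.card_range, nsmul_eq_mul]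

theorem polar_fixed (g : V ≃ₗ[F] V) (hgQ : ∀ v, Q (g v) = Q v) {N : ℕ} (hNF : (N : F) ≠ 0) {u v : V} (hu : g u = u)
    (hv : T g N v = 0) : polarBilin Q u v = 0 := by
  have h1 := polar_T g hgQ (N := N) hu v
  rw [hv, map_zero] at h1
  exact (mul_eq_zero.1 h1.symm).resolve_left hNF

theorem decomp (g : V ≃ₗ[F] V) {N : ℕ} (hN : (g.toLinearMap : Module.End F V) ^ N = 1) (hNF : (N : F) ≠ 0) (v : V) :
    ∃ u v', v = u + v' ∧ g u = u ∧ T g N v' = 0 := by
  refine ⟨(N : F)⁻¹ • T g N v, v - (N : F)⁻¹ • T g N v, by abel, by rw [map_smul, g_T g hN], ?_⟩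
  rw [map_sub, map_smul, T_fixed g N (g_T g hN v), smul_smul, inv_mul_cancel₀ hNF, one_smul, sub_self]

theorem sq_fixed (g : V ≃ₗ[F] V) {N : ℕ} (hN : (g.toLinearMap : Module.End F V) ^ N = 1) (hodd : Odd N) {v : V}
    (hv : g (g v) = v) : g v = v := by
  obtain ⟨k, rfl⟩ := hodd
  have h1 : ∀ j : ℕ, ((g.toLinearMap : Module.End F V) ^ (2 * j)) v = v := by
    intro j
    induction j with
    | zero => rfl
    | succ j ih => rw [show 2 * (j + 1) = 2 * j + 1 + 1 by ring, pow_apply_succ, pow_apply_succ, ih, hv]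
  have h2 : ((g.toLinearMap : Module.End F V) ^ (2 * k + 1)) v = v := by rw [hN]; rfl
  rw [pow_apply_succ, h1] at h2
  exact h2

/-- **Conjugacy in the orthogonal group, abstract version.** -/
theorem exists_conj [Finite F] [FiniteDimensional F V] (hQ : (polarBilin Q).Nondegenerate)
    (g h : V ≃ₗ[F] V) (hgQ : ∀ v, Q (g v) = Q v) (hhQ : ∀ v, Q (h v) = Q v) {N : ℕ} (hodd : Odd N) (hNF : (N : F) ≠ 0)
    (hgN : (g.toLinearMap : Module.End F V) ^ N = 1) (hhN : (h.toLinearMap : Module.End F V) ^ N = 1)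
    (x : V ≃ₗ[F] V) (hx : ∀ v, x (g v) = h (x v)) :
    ∃ z : V ≃ₗ[F] V, (∀ v, Q (z v) = Q v) ∧ ∀ v, z (g v) = h (z v) := by
  have hgB : ∀ u v, polarBilin Q (g u) (g v) = polarBilin Q u v :=
    ClassicalGeometry.WittQuad.polar_map Q g (fun u v => map_add g u v) hgQ
  have hhB : ∀ u v, polarBilin Q (h u) (h v) = polarBilin Q u v :=
    ClassicalGeometry.WittQuad.polar_map Q h (fun u v => map_add h u v) hhQ
  -- restriction of an isometry to the kernel of `T`
  have key : ∀ (k : V ≃ₗ[F] V), (∀ v, Q (k v) = Q v) → (k.toLinearMap : Module.End F V) ^ N = 1 →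
      (∃ k' : LinearMap.ker (T k N) ≃ₗ[F] LinearMap.ker (T k N), ∀ v, (k' v : V) = k v) ∧
      (polarBilin (Q.comp (LinearMap.ker (T k N)).subtype)).Nondegenerate := by
    intro k hkQ hkN
    refine ⟨⟨LinearEquiv.ofSubmodules k (LinearMap.ker (T k N)) (LinearMap.ker (T k N)) ?_, fun v => rfl⟩, ?_⟩
    · ext v
      rw [Submodule.mem_map]
      constructor
      · rintro ⟨w, hw, rfl⟩
        rw [LinearMap.mem_ker] at hw ⊢
        exact (T_g k hkN w).trans hw
      · intro hv
        refine ⟨k.symm v, ?_, k.apply_symm_apply v⟩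
        rw [LinearMap.mem_ker] at hv ⊢
        rw [← T_g k hkN, LinearEquiv.apply_symm_apply, hv]
    · have hpol : ∀ u v : LinearMap.ker (T k N), polarBilin (Q.comp (LinearMap.ker (T k N)).subtype) u v =
          polarBilin Q (u : V) (v : V) := by
        intro u v
        simp only [polarBilin_apply_apply, QuadraticMap.polar, QuadraticMap.comp_apply, Submodule.coe_subtype,
          Submodule.coe_add]
      have hrefl : (polarBilin (Q.comp (LinearMap.ker (T k N)).subtype)).IsRefl := by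
        intro u v huv
        rw [ClassicalGeometry.WittQuad.polar_comm', huv]
      rw [hrefl.nondegenerate_iff_separatingLeft]
      intro u hu
      apply Subtype.ext
      apply hQ.1
      intro v
      obtain ⟨a, v', rfl, ha, hv'⟩ := decomp k hkN hNF v
      rw [map_add, ClassicalGeometry.WittQuad.polar_comm' Q _ a, polar_fixed k hkQ hNF ha (LinearMap.mem_ker.1 u.2), zero_add]
      have := hu ⟨v', LinearMap.mem_ker.2 hv'⟩
      rwa [hpol] at this
  obtain ⟨⟨g', hg'⟩, ng⟩ := key g hgQ hgN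
  obtain ⟨⟨h', hh'⟩, nh⟩ := key h hhQ hhN
  obtain ⟨x', hx'⟩ : ∃ x' : LinearMap.ker (T g N) ≃ₗ[F] LinearMap.ker (T h N), ∀ v, (x' v : V) = x v := by
    refine ⟨LinearEquiv.ofSubmodules x (LinearMap.ker (T g N)) (LinearMap.ker (T h N)) ?_, fun v => rfl⟩
    ext v
    rw [Submodule.mem_map]
    constructor
    · rintro ⟨w, hw, rfl⟩
      rw [LinearMap.mem_ker] at hw ⊢
      show T h N (x w) = 0
      rw [← T_map g h N x hx, hw, map_zero]
    · intro hv
      refine ⟨x.symm v, ?_, x.apply_symm_apply v⟩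
      rw [LinearMap.mem_ker] at hv ⊢
      apply x.injective
      rw [T_map g h N x hx, LinearEquiv.apply_symm_apply, hv, map_zero]
  obtain ⟨z', hz1, hz2⟩ := InvForm.exists_isometry_quad (Q.comp (LinearMap.ker (T g N)).subtype)
    (Q.comp (LinearMap.ker (T h N)).subtype) ng nh g' h'
    (fun v => by simp only [QuadraticMap.comp_apply, Submodule.coe_subtype, hg', hgQ])
    (fun v => by simp only [QuadraticMap.comp_apply, Submodule.coe_subtype, hh', hhQ])
    (fun v hv => by
      have h1 : g (g (v : V)) = v := by rw [← hg', ← hg', hv]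
      have h2 := sq_fixed g hgN hodd h1
      have h3 := T_fixed g N h2
      rw [LinearMap.mem_ker.1 v.2] at h3
      exact Subtype.ext ((smul_eq_zero.1 h3.symm).resolve_left hNF))
    x' (fun v => Subtype.ext (by rw [hx', hg', hx, hh', hx']))
  obtain ⟨z, hzQ, hz⟩ := ClassicalGeometry.WittQuad.extend Q hQ _ _ z' (fun v => hz2 v)
  refine ⟨z, hzQ, fun v => ?_⟩
  have hzB : ∀ u v, polarBilin Q (z u) (z v) = polarBilin Q u v :=
    ClassicalGeometry.WittQuad.polar_map Q z (fun u v => map_add z u v) hzQ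
  obtain ⟨u, v', rfl, hu, hv'⟩ := decomp g hgN hNF v
  have e1 : z (g v') = h (z v') := by
    have h1 := hz ⟨v', LinearMap.mem_ker.2 hv'⟩
    have h2 := hz (g' ⟨v', LinearMap.mem_ker.2 hv'⟩)
    rw [hg', hz1, hh'] at h2
    exact h2.trans (congrArg h h1.symm)
  have e2 : z (g u) = h (z u) := by
    rw [hu]
    symm
    rw [← sub_eq_zero]
    apply hQ.1
    intro w
    obtain ⟨w, rfl⟩ := h.surjective w
    have h1 : T h N (w - h w) = 0 := by rw [map_sub, T_g h hhN, sub_self]
    obtain ⟨y, hy⟩ := z'.surjective ⟨w - h w, LinearMap.mem_ker.2 h1⟩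
    have h2 : z (y : V) = w - h w := by rw [hz, hy]
    have h3 := polar_fixed g hgQ hNF hu (LinearMap.mem_ker.1 y.2)
    rw [← hzB, h2, map_sub] at h3
    rw [map_sub, LinearMap.sub_apply, hhB]
    exact h3
  rw [map_add, map_add, map_add, map_add, e1, e2]

theorem mem_isometryGroup {ι : Type} [Fintype ι] [DecidableEq ι] {q : (ι → F) → F} {A : GL ι F} :
    A ∈ Cfsg.isometryGroup F q ↔ ∀ v, q ((A : Matrix ι ι F).mulVec v) = q v :=
  ⟨fun h v => h v v, fun h u _ => h u⟩

/-- **Conjugacy in the isometry group of a nondegenerate quadratic form.** -/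
theorem isConj_iff {ι : Type} [Fintype ι] [DecidableEq ι] [Finite F] (Q : QuadraticForm F (ι → F))
    (hQ : (polarBilin Q).Nondegenerate) (A B : ↥(Cfsg.isometryGroup F ⇑Q)) {N : ℕ} (hodd : Odd N) (hNF : (N : F) ≠ 0)
    (hA : A ^ N = 1) (hB : B ^ N = 1) :
    IsConj A B ↔ IsConj ((A : GL ι F) : Matrix ι ι F) ((B : GL ι F) : Matrix ι ι F) := by
  constructor
  · intro h
    exact MonoidHom.map_isConj (Units.coeHom (Matrix ι ι F)) (MonoidHom.map_isConj (Cfsg.isometryGroup F ⇑Q).subtype h)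
  · rintro ⟨c, hc⟩
    have hc' : (c : Matrix ι ι F) * ((A : GL ι F) : Matrix ι ι F) = ((B : GL ι F) : Matrix ι ι F) * c := hc
    let L : GL ι F → ((ι → F) ≃ₗ[F] (ι → F)) := fun M => Matrix.toLin'OfInv (M' := (M : Matrix ι ι F))
      (M := ((M⁻¹ : GL ι F) : Matrix ι ι F)) (by simp) (by simp)
    have hL : ∀ M v, L M v = (M : Matrix ι ι F).mulVec v := fun M v => Matrix.toLin'_apply _ v
    have hLp : ∀ (M : GL ι F), M ^ N = 1 → ((L M).toLinearMap : Module.End F (ι → F)) ^ N = 1 := by
      intro M hM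
      have h1 : ∀ k : ℕ, ∀ v, (((L M).toLinearMap : Module.End F (ι → F)) ^ k) v = ((M ^ k : GL ι F) : Matrix ι ι F).mulVec v := by
        intro k
        induction k with
        | zero => intro v; simp
        | succ k ih =>
          intro v
          rw [pow_apply_succ, ih, hL, Matrix.mulVec_mulVec, pow_succ']
          rfl
      exact LinearMap.ext fun v => by rw [h1, hM]; simp
    have hAN : (A : GL ι F) ^ N = 1 := by rw [← SubmonoidClass.coe_pow, hA]; rfl
    have hBN : (B : GL ι F) ^ N = 1 := by rw [← SubmonoidClass.coe_pow, hB]; rfl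
    obtain ⟨z, hzQ, hz⟩ := exists_conj hQ (L A) (L B) (mem_isometryGroup.1 A.2) (mem_isometryGroup.1 B.2) hodd hNF
      (hLp _ hAN) (hLp _ hBN) (L c) (fun v => by
        rw [hL, hL, hL, hL, Matrix.mulVec_mulVec, Matrix.mulVec_mulVec, hc'])
    let Z : GL ι F := ⟨LinearMap.toMatrix' z.toLinearMap, LinearMap.toMatrix' z.symm.toLinearMap, by
      rw [← LinearMap.toMatrix'_comp, LinearEquiv.comp_coe, LinearEquiv.symm_trans_self, LinearEquiv.refl_toLinearMap,
        LinearMap.toMatrix'_id], by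
      rw [← LinearMap.toMatrix'_comp, LinearEquiv.comp_coe, LinearEquiv.self_trans_symm, LinearEquiv.refl_toLinearMap,
        LinearMap.toMatrix'_id]⟩
    have hZ : ∀ v, (Z : Matrix ι ι F).mulVec v = z v := fun v => LinearMap.toMatrix'_mulVec z.toLinearMap v
    rw [_root_.isConj_iff]
    refine ⟨⟨Z, mem_isometryGroup.2 fun v => by rw [hZ, hzQ]⟩, ?_⟩
    rw [mul_inv_eq_iff_eq_mul]
    apply Subtype.ext
    apply Units.ext
    show (Z : Matrix ι ι F) * ((A : GL ι F) : Matrix ι ι F) = ((B : GL ι F) : Matrix ι ι F) * Z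
    apply Matrix.toLin'.injective
    apply LinearMap.ext
    intro v
    rw [Matrix.toLin'_apply, Matrix.toLin'_apply, ← Matrix.mulVec_mulVec, ← Matrix.mulVec_mulVec, hZ, hZ]
    exact hz v

end Cfsg.Agent.H193.OrthConj
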