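import Mathlib
import Cfsg.Agent.H193.Realise

/-!
# Counting classes of elements of prime order by an invariant

* `card_classes` : the number of classes of elements of order `r` is the number of values of a complete invariant on
  `{g | g ^ r = 1}` minus one;
* `exists_root` : set-up of the root of unity and the unit;
* `gl_count` : classes of elements of order `r` of `GL_n(q)`.
-/

set_option autoImplicit false

open Polynomial

namespace Cfsg.Agent.H193.ClassCount

open Cfsg.Agent.H193.Types Cfsg.Agent.H193.Count Cfsg.Agent.H193.Realise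

theorem card_classes {G : Type*} [Group G] {α : Type*} {r : ℕ} (hr : r.Prime) (f : G → α) (S : Set α)
    (h1 : ∀ g h : G, g ^ r = 1 → h ^ r = 1 → (IsConj g h ↔ f g = f h))
    (h2 : ∀ a, a ∈ S ↔ ∃ g : G, g ^ r = 1 ∧ f g = a) :
    Nat.card {C : ConjClasses G // ∃ g : G, ConjClasses.mk g = C ∧ orderOf g = r} = Nat.card S - 1 := by
  classical
  have hfac : Fact r.Prime := ⟨hr⟩
  have hord : ∀ g : G, orderOf g = r ↔ g ^ r = 1 ∧ g ≠ 1 := fun g => by
    constructor
    · intro h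
      refine ⟨by rw [← h, pow_orderOf_eq_one], ?_⟩
      rintro rfl
      rw [orderOf_one] at h
      exact hr.one_lt.ne h
    · rintro ⟨h, h'⟩
      exact orderOf_eq_prime h h'
  have key : Nat.card {C : ConjClasses G // ∃ g : G, ConjClasses.mk g = C ∧ orderOf g = r} =
      Nat.card (S \ {f 1} : Set α) := by
    have hΦ : ∀ C : {C : ConjClasses G // ∃ g : G, ConjClasses.mk g = C ∧ orderOf g = r},
        f C.2.choose ∈ S \ {f 1} := by
      intro C
      obtain ⟨-, hg⟩ := C.2.choose_spec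
      obtain ⟨hg1, hg2⟩ := (hord _).1 hg
      refine ⟨(h2 _).2 ⟨_, hg1, rfl⟩, ?_⟩
      intro h
      have := (h1 _ 1 hg1 (one_pow r)).2 h
      exact hg2 (isConj_one_left.1 this)
    refine Nat.card_eq_of_bijective (fun C => (⟨f C.2.choose, hΦ C⟩ : (S \ {f 1} : Set α))) ⟨?_, ?_⟩
    · intro C D hCD
      obtain ⟨c1, c2⟩ := C.2.choose_spec
      obtain ⟨d1, d2⟩ := D.2.choose_spec
      have h3 : f C.2.choose = f D.2.choose := congrArg Subtype.val hCD
      have h4 := (h1 _ _ ((hord _).1 c2).1 ((hord _).1 d2).1).2 h3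
      apply Subtype.ext
      rw [← c1, ← d1]
      exact ConjClasses.mk_eq_mk_iff_isConj.2 h4
    · rintro ⟨a, ha, ha1⟩
      obtain ⟨g, hg, rfl⟩ := (h2 a).1 ha
      have hg1 : g ≠ 1 := by rintro rfl; exact ha1 rfl
      have hC : ∃ g' : G, ConjClasses.mk g' = ConjClasses.mk g ∧ orderOf g' = r := ⟨g, rfl, (hord g).2 ⟨hg, hg1⟩⟩
      refine ⟨⟨ConjClasses.mk g, hC⟩, Subtype.ext ?_⟩
      obtain ⟨c1, c2⟩ := hC.choose_spec
      exact (h1 _ _ ((hord _).1 c2).1 hg).1 (ConjClasses.mk_eq_mk_iff_isConj.1 c1)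
  rw [key, Nat.card_coe_set_eq, Nat.card_coe_set_eq, Set.ncard_sdiff_singleton_of_mem]
  exact (h2 _).2 ⟨1, one_pow r, rfl⟩

/-- set-up -/
theorem exists_root {F : Type*} [Field F] [Fintype F] {r : ℕ} (hr : r.Prime) (hrF : (r : F) ≠ 0) :
    ∃ ζ : AlgebraicClosure F, IsPrimitiveRoot ζ r := by
  have : NeZero r := ⟨hr.ne_zero⟩
  have : NeZero ((r : ℕ) : AlgebraicClosure F) := ⟨by
    rw [← map_natCast (algebraMap F (AlgebraicClosure F)) r]
    exact (_root_.map_ne_zero _).2 hrF⟩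
  exact HasEnoughRootsOfUnity.exists_primitiveRoot (AlgebraicClosure F) r

theorem exists_unit {q r : ℕ} [Fact r.Prime] (h : (q : ZMod r) ≠ 0) : ∃ w : (ZMod r)ˣ, (w : ZMod r) = (q : ZMod r) :=
  ⟨Units.mk0 _ h, rfl⟩

theorem natCast_card_ne_zero {F : Type*} [Field F] [Fintype F] {p r : ℕ} [Fact p.Prime] [CharP F p] (hr : r.Prime)
    (hrp : r ≠ p) : ((Fintype.card F : ℕ) : ZMod r) ≠ 0 := by
  obtain ⟨n, hp, hn⟩ := FiniteField.card F p
  rw [hn]
  intro h
  rw [ZMod.natCast_eq_zero_iff] at h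
  exact hrp ((Nat.prime_dvd_prime_iff_eq hr hp).1 (hr.dvd_of_dvd_pow h))

theorem cast_ne_zero {F : Type*} [Field F] {p r : ℕ} [Fact p.Prime] [CharP F p] (hr : r.Prime)
    (hrp : r ≠ p) : (r : F) ≠ 0 := by
  rw [Ne, CharP.cast_eq_zero_iff F p]
  intro h
  exact hrp ((Nat.prime_dvd_prime_iff_eq Fact.out hr).1 h).symm

theorem gl_count {F : Type*} [Field F] [Fintype F] {p q : ℕ} [Fact p.Prime] [CharP F p] (hF : Fintype.card F = q)
    (n r i t : ℕ) (hr : r.Prime) (hrp : r ≠ p) (hi : i = orderOf (q : ZMod r)) (ht : t * i = r - 1) :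
    Nat.card {C : ConjClasses (GL (Fin n) F) // ∃ g : GL (Fin n) F, ConjClasses.mk g = C ∧ orderOf g = r} =
      Nat.choose (n / i + t) t - 1 := by
  classical
  have : Fact r.Prime := ⟨hr⟩
  obtain ⟨ζ, hζ⟩ := exists_root (F := F) hr (cast_ne_zero (p := p) hr hrp)
  obtain ⟨w, hw⟩ := exists_unit (natCast_card_ne_zero (F := F) (p := p) hr hrp)
  have hiw : i = orderOf w := by rw [hi, ← hF, ← hw, orderOf_units]
  have hi0 : 0 < i := hiw ▸ orderOf_pos w
  have ht' : (r - 1) / i = t := by rw [← ht, Nat.mul_div_cancel _ hi0]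
  have hinv : ∀ M : Matrix (Fin n) (Fin n) F, Inv w (ty ζ M) := fun M c => by rw [hw]; exact typ_frob hζ _ c
  have hpow : ∀ g : GL (Fin n) F, g ^ r = 1 → (g : Matrix (Fin n) (Fin n) F) ^ r = 1 := fun g hg => by
    rw [← Units.val_pow_eq_pow_val, hg, Units.val_one]
  rw [card_classes hr (fun g : GL (Fin n) F => ty (r := r) ζ (g : Matrix (Fin n) (Fin n) F))
    {a | Inv w a ∧ ∑ c, a c = n} (fun g h hg hh => isConj_iff_ty hζ hg hh) (fun a => ?_)]
  · congr 1
    rw [← ht', hiw]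
    exact card_inv w n
  · constructor
    · rintro ⟨h1, h2⟩
      obtain ⟨M, hM, hMa⟩ := exists_of_type hζ w hw n a h1 h2
      have hu : IsUnit M := IsUnit.of_pow_eq_one hM hr.ne_zero
      refine ⟨hu.unit, Units.ext ?_, hMa⟩
      rw [Units.val_pow_eq_pow_val, IsUnit.unit_spec, hM, Units.val_one]
    · rintro ⟨g, hg, rfl⟩
      refine ⟨hinv _, ?_⟩
      have := sum_ty hζ (hpow g hg)
      rwa [Fintype.card_fin] at this

end Cfsg.Agent.H193.ClassCount
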