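import Mathlib
import Cfsg.Agent.H193.OrthConj
import Cfsg.Agent.H193.Realise
import Cfsg.Agent.H193.Orders

/-!
# Realisation of symmetric types by isometries

* `exists_bilin` : a symmetric invariant type with `a 0 = 0` is the type of an element preserving a nondegenerate
  bilinear form;
* `ty_symm` : elements preserving a nondegenerate bilinear form have symmetric type;
* `no_fixed` : no fixed vectors if the type vanishes at `0`.
-/

set_option autoImplicit false

open Polynomial

namespace Cfsg.Agent.H193.RealForm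

open Cfsg.Agent.H193.Types Cfsg.Agent.H193.Count Cfsg.Agent.H193.Realise

universe u v

section Inv

variable {r : ℕ} [Fact r.Prime] (w : (ZMod r)ˣ)

/-- the generator of `⟨w, -1⟩` -/
noncomputable def gen : (ZMod r)ˣ := by classical exact if Odd (orderOf w) then -w else w

theorem orderOf_gen (hr2 : r ≠ 2) : orderOf (gen w) = if Odd (orderOf w) then 2 * orderOf w else orderOf w := by
  classical
  rw [gen]
  split_ifs with h
  · exact Orders.orderOf_neg_of_odd w hr2 h
  · rfl

theorem inv_gen_iff (a : ZMod r → ℕ) : Inv (gen w) a ↔ Inv w a ∧ ∀ c, a (-c) = a c := by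
  classical
  rw [gen]
  split_ifs with h
  · constructor
    · intro ha
      have hpow : ∀ c, a (-c) = a c := by
        intro c
        have h1 := Inv.zpow (-w) ha (orderOf w : ℤ) c
        rw [zpow_natCast, h.neg_pow, pow_orderOf_eq_one] at h1
        simpa using h1
      refine ⟨fun c => ?_, hpow⟩
      have h1 := ha (-c)
      rw [hpow] at h1
      rw [← h1]
      congr 1
      simp
    · rintro ⟨h1, h2⟩ c
      rw [Units.val_neg, neg_mul, h2, h1]
  · constructor
    · intro ha
      refine ⟨ha, fun c => ?_⟩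
      obtain ⟨b, hb⟩ := Nat.not_odd_iff_even.1 h
      have hb' : orderOf w = 2 * b := by omega
      have hb0 : b ≠ 0 := by
        rintro rfl
        exact (orderOf_pos w).ne' hb'
      have h1 := Inv.zpow w ha (b : ℤ) c
      rw [zpow_natCast, Orders.pow_half w hb' hb0] at h1
      simpa using h1
    · exact fun h => h.1

theorem even_sum (hr2 : r ≠ 2) {a : ZMod r → ℕ} (ha : ∀ c, a (-c) = a c) (h0 : a 0 = 0) : Even (∑ c, a c) := by
  have h2 : Fact (2 < r) := ⟨lt_of_le_of_ne (Nat.Prime.two_le Fact.out) (Ne.symm hr2)⟩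
  have h1 : ((∑ c, a c : ℕ) : ZMod 2) = 0 := by
    rw [Nat.cast_sum]
    refine Finset.sum_involution (fun c _ => -c) (fun c _ => ?_) (fun c _ hc => ?_) (fun c _ => Finset.mem_univ _)
      (fun c _ => neg_neg c)
    · rw [ha]
      exact CharTwo.add_self_eq_zero _
    · intro hcc
      apply hc
      have : c = 0 := by
        have h3 : (2 : ZMod r) * c = 0 := by linear_combination -hcc
        refine (mul_eq_zero.1 h3).resolve_left ?_
        intro h4
        exact neg_one_ne_one_aux h4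
      rw [this, h0, Nat.cast_zero]
  exact (ZMod.natCast_eq_zero_iff_even).1 h1
where
  neg_one_ne_one_aux {r : ℕ} [Fact (2 < r)] (h4 : (2 : ZMod r) = 0) : False := by
    have h5 : (-1 : ZMod r) ≠ 1 := ZMod.neg_one_ne_one
    apply h5
    linear_combination -h4

end Inv

section

variable {F : Type u} [Field F] [Fintype F] {E : Type v} [Field E] [Algebra F E] {r : ℕ}
  [IsAlgClosed E] [Fact r.Prime] {ζ : E} (hζ : IsPrimitiveRoot ζ r)

include hζ

theorem ty_symm_of_matrix {ι : Type} [Fintype ι] [DecidableEq ι] {A H : Matrix ι ι F} (hA : A ^ r = 1)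
    (hH : IsUnit H) (h : A.transpose * H * A = H) (c : ZMod r) : ty ζ A (-c) = ty ζ A c := by
  have hu : IsUnit A := IsUnit.of_pow_eq_one hA (NeZero.ne r)
  have hur : hu.unit ^ r = 1 := Units.ext (by rw [Units.val_pow_eq_pow_val, IsUnit.unit_spec, hA, Units.val_one])
  have hAT : A.transpose ^ r = 1 := by rw [← Matrix.transpose_pow, hA, Matrix.transpose_one]
  have hut : IsUnit A.transpose := IsUnit.of_pow_eq_one hAT (NeZero.ne r)
  have hutr : hut.unit ^ r = 1 := Units.ext (by rw [Units.val_pow_eq_pow_val, IsUnit.unit_spec, hAT, Units.val_one])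
  have h1 : hut.unit * hH.unit * hu.unit = hH.unit := Units.ext (by
    rw [Units.val_mul, Units.val_mul, IsUnit.unit_spec, IsUnit.unit_spec, IsUnit.unit_spec, h])
  have h2 : IsConj hu.unit hut.unit⁻¹ := isConj_iff.2 ⟨hH.unit, by
    have h3 : hut.unit⁻¹ * (hut.unit * hH.unit * hu.unit) = hH.unit * hu.unit := by group
    rw [h1] at h3
    rw [← h3]; group⟩
  have h4 := congrFun (ty_congr (r := r) ζ h2) (-c)
  rw [IsUnit.unit_spec, ty_inv hζ hutr, IsUnit.unit_spec, ty_transpose, neg_neg] at h4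
  exact h4

theorem ty_symm {ι : Type} [Fintype ι] [DecidableEq ι] {A : Matrix ι ι F} (hA : A ^ r = 1)
    (b : (ι → F) →ₗ[F] (ι → F) →ₗ[F] F) (hb : ∀ u, (∀ v, b u v = 0) → u = 0)
    (hAb : ∀ u v, b (A.mulVec u) (A.mulVec v) = b u v) (c : ZMod r) : ty ζ A (-c) = ty ζ A c := by
  let H : Matrix ι ι F := Matrix.of fun i j => b (Pi.single i 1) (Pi.single j 1)
  have hH : ∀ u v, b u v = u ⬝ᵥ H.mulVec v := by
    intro u v
    have hu : u = ∑ i, u i • (Pi.single i 1 : ι → F) := by
      conv_lhs => rw [pi_eq_sum_univ' u]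
    have hv : v = ∑ i, v i • (Pi.single i 1 : ι → F) := by
      conv_lhs => rw [pi_eq_sum_univ' v]
    conv_lhs => rw [hu, hv]
    simp only [map_sum, map_smul, LinearMap.sum_apply, LinearMap.smul_apply, smul_eq_mul]
    simp only [dotProduct, Matrix.mulVec, H, Matrix.of_apply, Finset.mul_sum]
    rw [Finset.sum_comm]
    refine Finset.sum_congr rfl fun i _ => ?_
    refine Finset.sum_congr rfl fun j _ => ?_
    ring
  have hHinj : ∀ v, H.mulVec v = 0 → v = 0 := fun v hv => InvForm.nondeg_right b hb v fun u => by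
    rw [hH, hv, dotProduct_zero]
  have hHu : IsUnit H := by
    rw [← Matrix.mulVec_injective_iff_isUnit]
    intro x y hxy
    have := hHinj (x - y) (by rw [Matrix.mulVec_sub]; exact sub_eq_zero.2 hxy)
    exact sub_eq_zero.1 this
  refine ty_symm_of_matrix hζ hA hHu ?_ c
  ext i j
  have h1 := hAb (Pi.single i 1) (Pi.single j 1)
  rw [hH, hH] at h1
  have h2 : ∀ M : Matrix ι ι F, (Pi.single i 1 : ι → F) ⬝ᵥ M.mulVec (Pi.single j 1) = M i j := by
    intro M
    simp
  rw [h2] at h1
  rw [← h1, ← h2 (A.transpose * H * A), ← Matrix.mulVec_mulVec, ← Matrix.mulVec_mulVec, Matrix.dotProduct_mulVec,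
    Matrix.vecMul_transpose]

/-- no fixed vectors -/
theorem no_fixed {V : Type*} [AddCommGroup V] [Module F V] [FiniteDimensional F V] (g : V ≃ₗ[F] V) (hr2 : r ≠ 2)
    (hg : (g.toLinearMap : Module.End F V) ^ r = 1) (h0 : typ ζ g.toLinearMap.charpoly (0 : ZMod r) = 0) :
    ∀ v, g (g v) = v → v = 0 := by
  intro v hv
  have h1 := OrthConj.sq_fixed g hg ((Nat.Prime.eq_two_or_odd' Fact.out).resolve_left hr2) hv
  by_contra hne
  have h2 : Module.End.HasEigenvector g.toLinearMap (1 : F) v :=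
    ⟨Module.End.mem_eigenspace_iff.2 (by rw [one_smul]; exact h1), hne⟩
  have h3 := (Module.End.hasEigenvalue_iff_isRoot_charpoly g.toLinearMap (1 : F)).1
    (Module.End.hasEigenvalue_of_hasEigenvector h2)
  rw [typ_eq_rootMultiplicity] at h0
  have h4 : (g.toLinearMap.charpoly.map (algebraMap F E)) ≠ 0 :=
    (Polynomial.map_ne_zero_iff (algebraMap F E).injective).2 g.toLinearMap.charpoly_monic.ne_zero
  have h5 := (rootMultiplicity_pos h4 (x := ζ ^ (0 : ZMod r).val)).2 (by
    rw [ZMod.val_zero, pow_zero, ← map_one (algebraMap F E)]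
    exact h3.map)
  omega

theorem exists_bilin (w : (ZMod r)ˣ) (hw : (w : ZMod r) = (Fintype.card F : ZMod r)) (hr2 : r ≠ 2) {n : ℕ}
    {a : ZMod r → ℕ} (ha : Inv w a)
    (hs : ∀ c, a (-c) = a c) (h0 : a 0 = 0) (hn : ∑ c, a c = n) :
    ∃ (g : (Fin n → F) ≃ₗ[F] (Fin n → F)) (b : (Fin n → F) →ₗ[F] (Fin n → F) →ₗ[F] F),
      (g.toLinearMap : Module.End F (Fin n → F)) ^ r = 1 ∧ (∀ c : ZMod r, typ ζ g.toLinearMap.charpoly c = a c) ∧
      (∀ u, (∀ v, b u v = 0) → u = 0) ∧ (∀ u v, b (g u) (g v) = b u v) ∧ ∀ v, g (g v) = v → v = 0 := by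
  obtain ⟨M, hM, hMa⟩ := exists_of_type hζ w hw n a ha hn
  have hu : IsUnit M := IsUnit.of_pow_eq_one hM (NeZero.ne r)
  have hur : hu.unit ^ r = 1 := Units.ext (by rw [Units.val_pow_eq_pow_val, IsUnit.unit_spec, hM, Units.val_one])
  have hAT : M.transpose ^ r = 1 := by rw [← Matrix.transpose_pow, hM, Matrix.transpose_one]
  have hut : IsUnit M.transpose := IsUnit.of_pow_eq_one hAT (NeZero.ne r)
  have hutr : hut.unit ^ r = 1 := Units.ext (by rw [Units.val_pow_eq_pow_val, IsUnit.unit_spec, hAT, Units.val_one])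
  have hconj : IsConj hu.unit hut.unit⁻¹ := by
    rw [isConj_iff_ty hζ hur (by rw [inv_pow, hutr, inv_one])]
    funext c
    rw [IsUnit.unit_spec, ty_inv hζ hutr, IsUnit.unit_spec, ty_transpose, hMa, hs]
  obtain ⟨x, hx⟩ := isConj_iff.1 hconj
  have hx' : M.transpose * (x : Matrix (Fin n) (Fin n) F) * M = x := by
    have h1 : hut.unit * x * hu.unit = x := by
      rw [mul_inv_eq_iff_eq_mul] at hx
      rw [mul_assoc, hx, mul_inv_cancel_left]
    have := congrArg Units.val h1
    simpa using this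
  let g : (Fin n → F) ≃ₗ[F] (Fin n → F) := Matrix.toLin'OfInv (M' := M) (M := ((hu.unit⁻¹ : GL (Fin n) F) : Matrix _ _ F))
    hu.val_inv_mul hu.mul_val_inv
  have hg : ∀ v, g v = M.mulVec v := fun v => Matrix.toLin'_apply _ v
  have hgL : g.toLinearMap = Matrix.toLin' M := LinearMap.ext fun v => hg v
  have hgr : (g.toLinearMap : Module.End F (Fin n → F)) ^ r = 1 := by
    rw [hgL, ← Matrix.toLin'_pow, hM, Matrix.toLin'_one]
    rfl
  have hgty : ∀ c : ZMod r, typ ζ g.toLinearMap.charpoly c = a c := fun c => by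
    rw [hgL, charpoly_toLin', ← hMa]
    rfl
  let b : (Fin n → F) →ₗ[F] (Fin n → F) →ₗ[F] F := LinearMap.mk₂ F (fun u v => u ⬝ᵥ (x : Matrix (Fin n) (Fin n) F).mulVec v)
    (fun u u' v => by rw [add_dotProduct]) (fun c u v => by rw [smul_dotProduct])
    (fun u v v' => by rw [Matrix.mulVec_add, dotProduct_add]) (fun c u v => by rw [Matrix.mulVec_smul, dotProduct_smul])
  have hb : ∀ u v, b u v = u ⬝ᵥ (x : Matrix (Fin n) (Fin n) F).mulVec v := fun u v => rfl
  refine ⟨g, b, hgr, hgty, fun u hu0 => ?_, fun u v => ?_, no_fixed hζ g hr2 hgr (by rw [hgty, h0])⟩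
  · funext i
    have h1 := hu0 (((x⁻¹ : GL (Fin n) F) : Matrix (Fin n) (Fin n) F).mulVec (Pi.single i 1))
    rw [hb, Matrix.mulVec_mulVec, ← Units.val_mul, mul_inv_cancel, Units.val_one, Matrix.one_mulVec] at h1
    simpa using h1
  · rw [hb, hb, hg, hg, Matrix.mulVec_mulVec]
    conv_rhs => rw [← hx', ← Matrix.mulVec_mulVec, ← Matrix.mulVec_mulVec, Matrix.dotProduct_mulVec,
      Matrix.vecMul_transpose]
    rw [Matrix.mulVec_mulVec]

omit hζ [IsAlgClosed E] [Fintype F] in
/-- transport to matrices -/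
theorem exists_matrix (ζ : E) {ι : Type} [Fintype ι] [DecidableEq ι] {V : Type*} [AddCommGroup V] [Module F V]
    [FiniteDimensional F V] (e : (ι → F) ≃ₗ[F] V) (G : V ≃ₗ[F] V) (hG : (G.toLinearMap : Module.End F V) ^ r = 1) :
    ∃ N : GL ι F, N ^ r = 1 ∧ (∀ c : ZMod r, ty ζ (N : Matrix ι ι F) c = typ ζ G.toLinearMap.charpoly c) ∧
      ∀ x, e ((N : Matrix ι ι F).mulVec x) = G (e x) := by
  let f : Module.End F (ι → F) := e.symm.conj G.toLinearMap
  have hf : ∀ x, f x = e.symm (G (e x)) := fun x => rfl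
  have hfr : f ^ r = 1 := by
    have h1 := map_pow (e.symm.conjAlgEquiv F) G.toLinearMap r
    rw [hG, map_one] at h1
    exact h1.symm
  let N : Matrix ι ι F := LinearMap.toMatrix' f
  have hNr : N ^ r = 1 := by
    show (LinearMap.toMatrix' f) ^ r = 1
    have h1 := map_pow (LinearMap.toMatrixAlgEquiv' (R := F) (n := ι)) f r
    rw [hfr, map_one] at h1
    exact h1.symm
  have hu : IsUnit N := IsUnit.of_pow_eq_one hNr (NeZero.ne r)
  refine ⟨hu.unit, Units.ext (by rw [Units.val_pow_eq_pow_val, IsUnit.unit_spec, hNr, Units.val_one]), fun c => ?_,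
    fun x => ?_⟩
  · rw [IsUnit.unit_spec, ty, ← charpoly_toLin', Matrix.toLin'_toMatrix', LinearEquiv.charpoly_conj]
  · rw [IsUnit.unit_spec]
    show e ((LinearMap.toMatrix' f).mulVec x) = _
    rw [LinearMap.toMatrix'_mulVec, hf, LinearEquiv.apply_symm_apply]

omit [Fintype F] in
theorem typ_id {ι : Type} [Fintype ι] (d : ZMod r) :
    typ ζ (LinearMap.id : (ι → F) →ₗ[F] (ι → F)).charpoly d = if d = 0 then Fintype.card ι else 0 := by
  classical
  have h0 : (LinearMap.id : (ι → F) →ₗ[F] (ι → F)) = Matrix.toLin' 1 := by rw [Matrix.toLin'_one]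
  have h1 : (LinearMap.id : (ι → F) →ₗ[F] (ι → F)).charpoly.map (algebraMap F E) =
      ∏ _i : ι, (X - C (ζ ^ ((fun _ => (0 : ZMod r)) (_i : ι)).val)) := by
    rw [h0, charpoly_toLin', ← Matrix.charpoly_map, Matrix.map_one _ (map_zero _) (map_one _), ← Matrix.diagonal_one,
      Matrix.charpoly_diagonal]
    simp
  rw [typ_of_exp hζ h1]
  split_ifs with hd
  · simp [hd]
  · simp [Ne.symm hd]

end

end Cfsg.Agent.H193.RealForm
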