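import Mathlib
import Cfsg.Agent.H193.RealForm
import Cfsg.Agent.H193.ClassCount
import Cfsg.Agent.ClassicalGeometry.SympIso
import Cfsg.Agent.H175.SympConj

/-!
# Classes of elements of odd prime order of `Sp_2m(q)`
-/

set_option autoImplicit false

open Polynomial

namespace Cfsg.Agent.H193.SpCount

open Cfsg.Agent.H193.Types Cfsg.Agent.H193.Count Cfsg.Agent.H193.Realise Cfsg.Agent.H193.ClassCount
  Cfsg.Agent.H193.RealForm Cfsg.Agent.ClassicalGeometry.SympBasic

universe u v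

variable {F : Type u} [Field F] [Fintype F] {E : Type v} [Field E] [Algebra F E] {r : ℕ}
  [IsAlgClosed E] [Fact r.Prime] {ζ : E} (hζ : IsPrimitiveRoot ζ r) (w : (ZMod r)ˣ)
  (hw : (w : ZMod r) = (Fintype.card F : ZMod r)) (hr2 : r ≠ 2)

include hζ hw hr2

theorem realise_sp {m : ℕ} {a : ZMod r → ℕ} (ha : Inv w a) (hs : ∀ c, a (-c) = a c) (hn : ∑ c, a c = 2 * m) :
    ∃ g : Matrix.symplecticGroup (Fin m) F, g ^ r = 1 ∧
      ty ζ (g : Matrix (Fin m ⊕ Fin m) (Fin m ⊕ Fin m) F) = a := by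
  classical
  obtain ⟨a', ha'⟩ : ∃ a' : ZMod r → ℕ, a' = Function.update a 0 0 := ⟨_, rfl⟩
  have ha'0 : a' 0 = 0 := by rw [ha']; simp
  have ha'1 : ∀ c, c ≠ 0 → a' c = a c := fun c hc => by rw [ha']; simp [hc]
  have inv' : Inv w a' := fun c => by
    by_cases hc : c = 0
    · rw [hc, mul_zero]
    · rw [ha'1 _ (mul_ne_zero w.ne_zero hc), ha'1 c hc, ha]
  have symm' : ∀ c, a' (-c) = a' c := fun c => by
    by_cases hc : c = 0
    · rw [hc, neg_zero]
    · rw [ha'1 _ (neg_ne_zero.2 hc), ha'1 c hc, hs]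
  obtain ⟨n, hn'⟩ : ∃ n, n = ∑ c, a' c := ⟨_, rfl⟩
  have hsum : n + a 0 = 2 * m := by
    rw [hn', ← hn, sum_zmod a, sum_zmod a', ha'0]
    have : ∑ v : (ZMod r)ˣ, a' v = ∑ v : (ZMod r)ˣ, a v := Finset.sum_congr rfl fun v _ => ha'1 _ v.ne_zero
    omega
  obtain ⟨k, hk⟩ := even_sum hr2 symm' ha'0
  obtain ⟨l, hl⟩ : ∃ l, a 0 = 2 * l := ⟨m - k, by omega⟩
  obtain ⟨g, b, hg, hgty, hbn, hbg, hfix⟩ := exists_bilin hζ w hw hr2 inv' symm' ha'0 hn'.symm
  obtain ⟨B, hBn, hBs, hBg⟩ := InvForm.exists_form b hbn (-1) (by ring) g hbg hfix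
  have hBalt := InvForm.alt_of_skew B hBs g hBg hfix
  let B' : LinearMap.BilinForm F ((Fin n → F) × (Fin l ⊕ Fin l → F)) :=
    B.compl₁₂ (LinearMap.fst F _ _) (LinearMap.fst F _ _) +
      (sympBilin l F).compl₁₂ (LinearMap.snd F _ _) (LinearMap.snd F _ _)
  have hB' : ∀ u v, B' u v = B u.1 v.1 + sympForm l F u.2 v.2 := fun u v => rfl
  have hB'alt : B'.IsAlt := fun u => by rw [hB', hBalt, sympForm_self, add_zero]
  have hB'n : ∀ u, (∀ v, B' u v = 0) → u = 0 := by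
    rintro ⟨u1, u2⟩ hu
    have h1 : u1 = 0 := hBn _ fun v => by
      have := hu (v, 0)
      rw [hB'] at this
      simpa using this
    have h2 : u2 = 0 := eq_zero_of_forall_sympForm_right fun v => by
      have := hu (0, v)
      rw [hB'] at this
      simpa using this
    rw [h1, h2]; rfl
  obtain ⟨e, he⟩ := ClassicalGeometry.SympIso.exists_linearEquiv_sympForm B' hB'alt hB'n (k := m) (by
    rw [Module.finrank_prod, Module.finrank_fin_fun, Module.finrank_fintype_fun_eq_card, Fintype.card_sum,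
      Fintype.card_fin]
    omega)
  let G : ((Fin n → F) × (Fin l ⊕ Fin l → F)) ≃ₗ[F] ((Fin n → F) × (Fin l ⊕ Fin l → F)) :=
    g.prodCongr (LinearEquiv.refl F _)
  have hGm : G.toLinearMap = g.toLinearMap.prodMap LinearMap.id := rfl
  have hGr : (G.toLinearMap : Module.End F _) ^ r = 1 := by
    apply LinearMap.ext
    rintro ⟨u, v⟩
    have h1 : ∀ k : ℕ, ((G.toLinearMap : Module.End F _) ^ k) (u, v) =
        (((g.toLinearMap : Module.End F _) ^ k) u, v) := by
      intro k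
      induction k with
      | zero => rfl
      | succ k ih => rw [OrthConj.pow_apply_succ, ih, OrthConj.pow_apply_succ]; rfl
    rw [h1, hg]
    rfl
  obtain ⟨N, hN, hNty, hNe⟩ := exists_matrix ζ e G hGr
  have hmem : (N : Matrix (Fin m ⊕ Fin m) (Fin m ⊕ Fin m) F) ∈ Matrix.symplecticGroup (Fin m) F := by
    rw [mem_symplecticGroup_iff]
    intro u v
    rw [← he, ← he, hNe, hNe, hB', hB']
    show B (g (e u).1) (g (e v).1) + sympForm l F (e u).2 (e v).2 = _
    rw [hBg]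
  refine ⟨⟨N, hmem⟩, Subtype.ext ?_, ?_⟩
  · rw [SubmonoidClass.coe_pow]
    show (N : Matrix (Fin m ⊕ Fin m) (Fin m ⊕ Fin m) F) ^ r = 1
    rw [← Units.val_pow_eq_pow_val, hN, Units.val_one]
  · funext c
    show ty ζ (N : Matrix (Fin m ⊕ Fin m) (Fin m ⊕ Fin m) F) c = a c
    rw [hNty, hGm, LinearMap.charpoly_prodMap, typ_mul ζ (LinearMap.charpoly_monic _).ne_zero
      (LinearMap.charpoly_monic _).ne_zero, hgty, typ_id hζ]
    by_cases hc : c = 0
    · rw [if_pos hc, hc, ha'0, Fintype.card_sum, Fintype.card_fin, hl]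
      omega
    · rw [if_neg hc, ha'1 c hc, add_zero]

theorem sp_count_aux {p : ℕ} [Fact p.Prime] [CharP F p] (hrp : r ≠ p) (m : ℕ) :
    Nat.card {C : ConjClasses ↥(Matrix.symplecticGroup (Fin m) F) //
      ∃ g : Matrix.symplecticGroup (Fin m) F, ConjClasses.mk g = C ∧ orderOf g = r} =
      (2 * m / orderOf (gen w) + (r - 1) / orderOf (gen w)).choose ((r - 1) / orderOf (gen w)) - 1 := by
  have hr : r.Prime := Fact.out
  have hpow : ∀ g : Matrix.symplecticGroup (Fin m) F, g ^ r = 1 →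
      (g : Matrix (Fin m ⊕ Fin m) (Fin m ⊕ Fin m) F) ^ r = 1 := fun g hg => by
    rw [← SubmonoidClass.coe_pow, hg]; rfl
  have hunit : ∀ (M : Matrix (Fin m ⊕ Fin m) (Fin m ⊕ Fin m) F), M ^ r = 1 →
      ∃ U : GL (Fin m ⊕ Fin m) F, U.val = M ∧ U ^ r = 1 := fun M hM => by
    have hu : IsUnit M := IsUnit.of_pow_eq_one hM hr.ne_zero
    exact ⟨hu.unit, rfl, Units.ext (by rw [Units.val_pow_eq_pow_val, IsUnit.unit_spec, hM, Units.val_one])⟩
  rw [card_classes hr (fun g : Matrix.symplecticGroup (Fin m) F =>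
    ty (r := r) ζ (g : Matrix (Fin m ⊕ Fin m) (Fin m ⊕ Fin m) F))
    {a | Inv (gen w) a ∧ ∑ c, a c = 2 * m} (fun g h hg hh => ?_) (fun a => ?_)]
  · congr 1
    exact card_inv (gen w) (2 * m)
  · obtain ⟨U, hU, hUr⟩ := hunit _ (hpow g hg)
    obtain ⟨U', hU', hU'r⟩ := hunit _ (hpow h hh)
    show _ ↔ ty ζ (g : Matrix (Fin m ⊕ Fin m) (Fin m ⊕ Fin m) F) = ty ζ (h : Matrix (Fin m ⊕ Fin m) (Fin m ⊕ Fin m) F)
    rw [← hU, ← hU', ← isConj_iff_ty hζ hUr hU'r]
    constructor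
    · intro hc
      obtain ⟨c, hc⟩ := (Submonoid.subtype (Matrix.symplecticGroup (Fin m) F)).map_isConj hc
      refine ⟨toUnits c, Units.ext ?_⟩
      have : (c : Matrix (Fin m ⊕ Fin m) (Fin m ⊕ Fin m) F) * g.1 = h.1 * c := hc
      show (c : Matrix (Fin m ⊕ Fin m) (Fin m ⊕ Fin m) F) * U.val = U'.val * c
      rw [hU, hU', this]
    · intro hc
      obtain ⟨c, hc⟩ := hc
      have hc' : c.val * U = U' * c.val := hc
      refine Cfsg.Agent.H175.SympConj.exists_conj (p := p) g h ?_ c.val.val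
        (Units.isUnit _) ?_
      · have h1 : orderOf g ∣ r := orderOf_dvd_of_pow_eq_one hg
        exact Nat.Coprime.coprime_dvd_left h1 ((Nat.coprime_primes hr Fact.out).2 hrp)
      · show c.val.val * g.1 = h.1 * c.val.val
        rw [← hU, ← hU', ← Units.val_mul, hc', Units.val_mul]
  · constructor
    · rintro ⟨h1, h2⟩
      obtain ⟨h3, h4⟩ := (inv_gen_iff w a).1 h1
      exact realise_sp hζ w hw hr2 h3 h4 h2
    · rintro ⟨g, hg, rfl⟩
      refine ⟨(inv_gen_iff w _).2 ⟨fun c => by rw [hw]; exact typ_frob hζ _ c, fun c => ?_⟩, ?_⟩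
      · exact ty_symm hζ (hpow g hg) (sympBilin m F)
          (fun u hu => eq_zero_of_forall_sympForm_right hu)
          (fun u v => sympForm_mulVec g.2 u v) c
      · have := sum_ty hζ (hpow g hg)
        rw [Fintype.card_sum, Fintype.card_fin, ← two_mul] at this
        exact this

omit hw hζ hr2 in
theorem sp_count {p q : ℕ} [Fact p.Prime] [CharP F p] (hF : Fintype.card F = q) (m r i t : ℕ) (hr : r.Prime)
    (hr2 : r ≠ 2) (hrp : r ≠ p) (hi : i = orderOf (q : ZMod r)) (ht : t * i = r - 1) :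
    Nat.card {C : ConjClasses ↥(Matrix.symplecticGroup (Fin m) F) //
      ∃ g : Matrix.symplecticGroup (Fin m) F, ConjClasses.mk g = C ∧ orderOf g = r} =
      if Odd i then Nat.choose (m / i + t / 2) (t / 2) - 1 else Nat.choose (2 * m / i + t) t - 1 := by
  have : Fact r.Prime := ⟨hr⟩
  obtain ⟨ζ, hζ⟩ := exists_root (F := F) hr (cast_ne_zero (p := p) hr hrp)
  obtain ⟨w, hw⟩ := exists_unit (natCast_card_ne_zero (F := F) (p := p) hr hrp)
  have hiw : orderOf w = i := by rw [hi, ← hF, ← hw, orderOf_units]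
  have hi0 : 0 < i := hiw ▸ orderOf_pos w
  rw [sp_count_aux hζ w hw hr2 hrp, orderOf_gen w hr2, hiw]
  split_ifs with hodd
  · have h3 : (r - 1) / (2 * i) = t / 2 := by
      rw [← ht, mul_comm t i, mul_comm 2 i, Nat.mul_div_mul_left _ _ hi0]
    rw [h3, Nat.mul_div_mul_left _ _ two_pos]
  · rw [← ht, Nat.mul_div_cancel _ hi0]

end Cfsg.Agent.H193.SpCount
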